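import Cfsg.Agent.BabyM.Conc
import Cfsg.Prelude.Def_Spor_B
import Cfsg.Agent.BabyM.WordsInst
import Cfsg.Agent.BMx.Low
import Cfsg.Agent.BabyM.ConcEq
import Cfsg.Agent.BabyM.InstZ
import Cfsg.Agent.MonsterX.HNTen
import Cfsg.Agent.Monster.VecSpace
import Cfsg.Agent.Monster.PlaneArith
import Cfsg.Agent.Prune
set_option linter.all false

-- part: BM/StageWPairs
section
set_option linter.all false

-- part: BM/StageWWords
section
/-!
# The generators of the presented Baby Monster as words in the concrete 4371-dimensional model (S1704, stage W)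

Letters in application order (the first letter acts first).
-/

set_option autoImplicit false

namespace Cfsg.Agent.BM.StageW

open Cfsg.Agent.BabyM.Conc

/-- The word of a generator. -/
def tw : Cfsg.Spor.BabyMonster.Gen → List Ltr
  | .t1 => [.p10, .hi, .p9, .xii, .p10, .xii, .z, .X10, .X1, .Z1, .tau, .X10, .Z1, .X1, .X10, .z, .xi, .p, .xi, .p2, .h, .p]
  | .t2 => [.Z0, .Z1, .Z5, .Z6, .Z7, .Z9, .Z10]
  | .t3 => [.y10, .xii, .hi, .xii, .z, .X8, .X6, .X5, .Z5, .tau, .X10, .Z5, .X5, .X6, .X8, .z, .xi, .h, .xi, .y10]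
  | .t4 => [.Z3, .Z5, .Z7, .Z10, .X1, .X2, .X4, .X6, .X7, .X10]
  | .t5 => [.tau, .X10]
  | .t6 => [.Z3, .Z6, .Z10, .X2, .X3, .X4, .X5, .X7, .X9, .X10]
  | .t7 => [.xii, .p10, .xii, .X10, .X8, .X3, .tau, .X10, .X3, .X8, .X10, .xi, .p, .xi]
  | .t8 => [.Z1, .Z3, .Z4, .Z5, .Z9]
  | .t9 => [.Z0, .Z1, .Z3, .Z6, .Z8, .X2, .X4, .X5, .X10]
  | .t10 => [.y9, .p, .xii, .p, .xii, .X9, .X7, .X6, .X3, .X1, .X0, .tau, .X10, .X0, .X1, .X3, .X6, .X7, .X9, .xi, .p10, .xi, .p10, .y9]
  | .t11 => [.Z0, .Z1, .Z2, .Z3, .Z4, .Z7]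

end Cfsg.Agent.BM.StageW
end

-- part: BM/StageWPairs
section
/-!
# S1704, stage W: kernel checks of the Coxeter relations of `Y₄₃₃` on the vector of the base
-/

set_option autoImplicit false
set_option Elab.async false

namespace Cfsg.Agent.BM.StageW

open Cfsg.Agent.Monster.VecEngine Cfsg.Agent.BabyM.Conc Cfsg.Agent.BabyM.WordsInst Cfsg.Spor.BabyMonster

/-- The check that two words agree on the vector of the base. -/
noncomputable def chk (v w : List Ltr) : Bool := check (v.map Ltr.prog) vB (w.map Ltr.prog) vB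

/-! ### Squares -/

theorem s1 : chk (tw .t1 ++ tw .t1) [] = true :=
  Cfsg.Agent.BMx.Low.chk_of_eqF (by decide +kernel)

theorem s2 : chk (tw .t2 ++ tw .t2) [] = true :=
  Cfsg.Agent.BMx.Low.chk_of_eqF (by decide +kernel)

theorem s3 : chk (tw .t3 ++ tw .t3) [] = true :=
  Cfsg.Agent.BMx.Low.chk_of_eqF (by decide +kernel)

theorem s4 : chk (tw .t4 ++ tw .t4) [] = true :=
  Cfsg.Agent.BMx.Low.chk_of_eqF (by decide +kernel)

theorem s5 : chk (tw .t5 ++ tw .t5) [] = true :=
  Cfsg.Agent.BMx.Low.chk_of_eqF (by decide +kernel)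

theorem s6 : chk (tw .t6 ++ tw .t6) [] = true :=
  Cfsg.Agent.BMx.Low.chk_of_eqF (by decide +kernel)

theorem s7 : chk (tw .t7 ++ tw .t7) [] = true :=
  Cfsg.Agent.BMx.Low.chk_of_eqF (by decide +kernel)

theorem s8 : chk (tw .t8 ++ tw .t8) [] = true :=
  Cfsg.Agent.BMx.Low.chk_of_eqF (by decide +kernel)

theorem s9 : chk (tw .t9 ++ tw .t9) [] = true :=
  Cfsg.Agent.BMx.Low.chk_of_eqF (by decide +kernel)

theorem s10 : chk (tw .t10 ++ tw .t10) [] = true :=
  Cfsg.Agent.BMx.Low.chk_of_eqF (by decide +kernel)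

theorem s11 : chk (tw .t11 ++ tw .t11) [] = true :=
  Cfsg.Agent.BMx.Low.chk_of_eqF (by decide +kernel)

/-! ### Pairs -/

theorem c1_2 : chk (tw .t1 ++ tw .t2 ++ tw .t1) (tw .t2 ++ tw .t1 ++ tw .t2) = true :=
  Cfsg.Agent.BMx.Low.chk_of_eqF (by decide +kernel)

theorem c1_3 : chk (tw .t1 ++ tw .t3) (tw .t3 ++ tw .t1) = true :=
  Cfsg.Agent.BMx.Low.chk_of_eqF (by decide +kernel)

theorem c1_4 : chk (tw .t1 ++ tw .t4) (tw .t4 ++ tw .t1) = true :=
  Cfsg.Agent.BMx.Low.chk_of_eqF (by decide +kernel)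

theorem c1_5 : chk (tw .t1 ++ tw .t5) (tw .t5 ++ tw .t1) = true :=
  Cfsg.Agent.BMx.Low.chk_of_eqF (by decide +kernel)

theorem c1_6 : chk (tw .t1 ++ tw .t6) (tw .t6 ++ tw .t1) = true :=
  Cfsg.Agent.BMx.Low.chk_of_eqF (by decide +kernel)

theorem c1_7 : chk (tw .t1 ++ tw .t7) (tw .t7 ++ tw .t1) = true :=
  Cfsg.Agent.BMx.Low.chk_of_eqF (by decide +kernel)

theorem c1_8 : chk (tw .t1 ++ tw .t8) (tw .t8 ++ tw .t1) = true :=
  Cfsg.Agent.BMx.Low.chk_of_eqF (by decide +kernel)

theorem c1_9 : chk (tw .t1 ++ tw .t9) (tw .t9 ++ tw .t1) = true :=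
  Cfsg.Agent.BMx.Low.chk_of_eqF (by decide +kernel)

theorem c1_10 : chk (tw .t1 ++ tw .t10) (tw .t10 ++ tw .t1) = true :=
  Cfsg.Agent.BMx.Low.chk_of_eqF (by decide +kernel)

theorem c1_11 : chk (tw .t1 ++ tw .t11) (tw .t11 ++ tw .t1) = true :=
  Cfsg.Agent.BMx.Low.chk_of_eqF (by decide +kernel)

theorem c2_3 : chk (tw .t2 ++ tw .t3 ++ tw .t2) (tw .t3 ++ tw .t2 ++ tw .t3) = true :=
  Cfsg.Agent.BMx.Low.chk_of_eqF (by decide +kernel)

theorem c2_4 : chk (tw .t2 ++ tw .t4) (tw .t4 ++ tw .t2) = true :=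
  Cfsg.Agent.BMx.Low.chk_of_eqF (by decide +kernel)

theorem c2_5 : chk (tw .t2 ++ tw .t5) (tw .t5 ++ tw .t2) = true :=
  Cfsg.Agent.BMx.Low.chk_of_eqF (by decide +kernel)

theorem c2_6 : chk (tw .t2 ++ tw .t6) (tw .t6 ++ tw .t2) = true :=
  Cfsg.Agent.BMx.Low.chk_of_eqF (by decide +kernel)

theorem c2_7 : chk (tw .t2 ++ tw .t7) (tw .t7 ++ tw .t2) = true :=
  Cfsg.Agent.BMx.Low.chk_of_eqF (by decide +kernel)

theorem c2_8 : chk (tw .t2 ++ tw .t8) (tw .t8 ++ tw .t2) = true :=
  Cfsg.Agent.BMx.Low.chk_of_eqF (by decide +kernel)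

theorem c2_9 : chk (tw .t2 ++ tw .t9) (tw .t9 ++ tw .t2) = true :=
  Cfsg.Agent.BMx.Low.chk_of_eqF (by decide +kernel)

theorem c2_10 : chk (tw .t2 ++ tw .t10) (tw .t10 ++ tw .t2) = true :=
  Cfsg.Agent.BMx.Low.chk_of_eqF (by decide +kernel)

theorem c2_11 : chk (tw .t2 ++ tw .t11) (tw .t11 ++ tw .t2) = true :=
  Cfsg.Agent.BMx.Low.chk_of_eqF (by decide +kernel)

theorem c3_4 : chk (tw .t3 ++ tw .t4 ++ tw .t3) (tw .t4 ++ tw .t3 ++ tw .t4) = true :=
  Cfsg.Agent.BMx.Low.chk_of_eqF (by decide +kernel)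

theorem c3_5 : chk (tw .t3 ++ tw .t5) (tw .t5 ++ tw .t3) = true :=
  Cfsg.Agent.BMx.Low.chk_of_eqF (by decide +kernel)

theorem c3_6 : chk (tw .t3 ++ tw .t6) (tw .t6 ++ tw .t3) = true :=
  Cfsg.Agent.BMx.Low.chk_of_eqF (by decide +kernel)

theorem c3_7 : chk (tw .t3 ++ tw .t7) (tw .t7 ++ tw .t3) = true :=
  Cfsg.Agent.BMx.Low.chk_of_eqF (by decide +kernel)

theorem c3_8 : chk (tw .t3 ++ tw .t8) (tw .t8 ++ tw .t3) = true :=
  Cfsg.Agent.BMx.Low.chk_of_eqF (by decide +kernel)

theorem c3_9 : chk (tw .t3 ++ tw .t9) (tw .t9 ++ tw .t3) = true :=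
  Cfsg.Agent.BMx.Low.chk_of_eqF (by decide +kernel)

theorem c3_10 : chk (tw .t3 ++ tw .t10) (tw .t10 ++ tw .t3) = true :=
  Cfsg.Agent.BMx.Low.chk_of_eqF (by decide +kernel)

theorem c3_11 : chk (tw .t3 ++ tw .t11) (tw .t11 ++ tw .t3) = true :=
  Cfsg.Agent.BMx.Low.chk_of_eqF (by decide +kernel)

theorem c4_5 : chk (tw .t4 ++ tw .t5 ++ tw .t4) (tw .t5 ++ tw .t4 ++ tw .t5) = true :=
  Cfsg.Agent.BMx.Low.chk_of_eqF (by decide +kernel)

theorem c4_6 : chk (tw .t4 ++ tw .t6) (tw .t6 ++ tw .t4) = true :=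
  Cfsg.Agent.BMx.Low.chk_of_eqF (by decide +kernel)

theorem c4_7 : chk (tw .t4 ++ tw .t7) (tw .t7 ++ tw .t4) = true :=
  Cfsg.Agent.BMx.Low.chk_of_eqF (by decide +kernel)

theorem c4_8 : chk (tw .t4 ++ tw .t8) (tw .t8 ++ tw .t4) = true :=
  Cfsg.Agent.BMx.Low.chk_of_eqF (by decide +kernel)

theorem c4_9 : chk (tw .t4 ++ tw .t9) (tw .t9 ++ tw .t4) = true :=
  Cfsg.Agent.BMx.Low.chk_of_eqF (by decide +kernel)

theorem c4_10 : chk (tw .t4 ++ tw .t10) (tw .t10 ++ tw .t4) = true :=
  Cfsg.Agent.BMx.Low.chk_of_eqF (by decide +kernel)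

theorem c4_11 : chk (tw .t4 ++ tw .t11) (tw .t11 ++ tw .t4) = true :=
  Cfsg.Agent.BMx.Low.chk_of_eqF (by decide +kernel)

theorem c5_6 : chk (tw .t5 ++ tw .t6 ++ tw .t5) (tw .t6 ++ tw .t5 ++ tw .t6) = true :=
  Cfsg.Agent.BMx.Low.chk_of_eqF (by decide +kernel)

theorem c5_7 : chk (tw .t5 ++ tw .t7) (tw .t7 ++ tw .t5) = true :=
  Cfsg.Agent.BMx.Low.chk_of_eqF (by decide +kernel)

theorem c5_8 : chk (tw .t5 ++ tw .t8) (tw .t8 ++ tw .t5) = true :=
  Cfsg.Agent.BMx.Low.chk_of_eqF (by decide +kernel)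

theorem c5_9 : chk (tw .t5 ++ tw .t9 ++ tw .t5) (tw .t9 ++ tw .t5 ++ tw .t9) = true :=
  Cfsg.Agent.BMx.Low.chk_of_eqF (by decide +kernel)

theorem c5_10 : chk (tw .t5 ++ tw .t10) (tw .t10 ++ tw .t5) = true :=
  Cfsg.Agent.BMx.Low.chk_of_eqF (by decide +kernel)

theorem c5_11 : chk (tw .t5 ++ tw .t11) (tw .t11 ++ tw .t5) = true :=
  Cfsg.Agent.BMx.Low.chk_of_eqF (by decide +kernel)

theorem c6_7 : chk (tw .t6 ++ tw .t7 ++ tw .t6) (tw .t7 ++ tw .t6 ++ tw .t7) = true :=
  Cfsg.Agent.BMx.Low.chk_of_eqF (by decide +kernel)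

theorem c6_8 : chk (tw .t6 ++ tw .t8) (tw .t8 ++ tw .t6) = true :=
  Cfsg.Agent.BMx.Low.chk_of_eqF (by decide +kernel)

theorem c6_9 : chk (tw .t6 ++ tw .t9) (tw .t9 ++ tw .t6) = true :=
  Cfsg.Agent.BMx.Low.chk_of_eqF (by decide +kernel)

theorem c6_10 : chk (tw .t6 ++ tw .t10) (tw .t10 ++ tw .t6) = true :=
  Cfsg.Agent.BMx.Low.chk_of_eqF (by decide +kernel)

theorem c6_11 : chk (tw .t6 ++ tw .t11) (tw .t11 ++ tw .t6) = true :=
  Cfsg.Agent.BMx.Low.chk_of_eqF (by decide +kernel)

theorem c7_8 : chk (tw .t7 ++ tw .t8 ++ tw .t7) (tw .t8 ++ tw .t7 ++ tw .t8) = true :=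
  Cfsg.Agent.BMx.Low.chk_of_eqF (by decide +kernel)

theorem c7_9 : chk (tw .t7 ++ tw .t9) (tw .t9 ++ tw .t7) = true :=
  Cfsg.Agent.BMx.Low.chk_of_eqF (by decide +kernel)

theorem c7_10 : chk (tw .t7 ++ tw .t10) (tw .t10 ++ tw .t7) = true :=
  Cfsg.Agent.BMx.Low.chk_of_eqF (by decide +kernel)

theorem c7_11 : chk (tw .t7 ++ tw .t11) (tw .t11 ++ tw .t7) = true :=
  Cfsg.Agent.BMx.Low.chk_of_eqF (by decide +kernel)

theorem c8_9 : chk (tw .t8 ++ tw .t9) (tw .t9 ++ tw .t8) = true :=
  Cfsg.Agent.BMx.Low.chk_of_eqF (by decide +kernel)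

theorem c8_10 : chk (tw .t8 ++ tw .t10) (tw .t10 ++ tw .t8) = true :=
  Cfsg.Agent.BMx.Low.chk_of_eqF (by decide +kernel)

theorem c8_11 : chk (tw .t8 ++ tw .t11) (tw .t11 ++ tw .t8) = true :=
  Cfsg.Agent.BMx.Low.chk_of_eqF (by decide +kernel)

theorem c9_10 : chk (tw .t9 ++ tw .t10 ++ tw .t9) (tw .t10 ++ tw .t9 ++ tw .t10) = true :=
  Cfsg.Agent.BMx.Low.chk_of_eqF (by decide +kernel)

theorem c9_11 : chk (tw .t9 ++ tw .t11) (tw .t11 ++ tw .t9) = true :=
  Cfsg.Agent.BMx.Low.chk_of_eqF (by decide +kernel)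

theorem c10_11 : chk (tw .t10 ++ tw .t11 ++ tw .t10) (tw .t11 ++ tw .t10 ++ tw .t11) = true :=
  Cfsg.Agent.BMx.Low.chk_of_eqF (by decide +kernel)

end Cfsg.Agent.BM.StageW
end
end

-- part: BabyM/InstMem
section
prune_inst 0x7f00000000000000000000000000000000000000000000000000000000000000000000000000000000000000000000000000000000000000000000000000000000000000000000000000000000000000003fffffffffffffffffffffffffffbeffbdffffffff
set_option linter.all false
open scoped Cfsg.Agent.FastGrp

/-!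
# The concrete model: membership of words in `Q`, `C`, `G`
-/

set_option autoImplicit false

namespace Cfsg.Agent.BabyM.InstMem

open Cfsg.Agent.BabyM.Conc Cfsg.Agent.BabyM.Model Cfsg.Agent.BabyM.Inst Cfsg.Agent.BabyM.InstZ
  Cfsg.Agent.BabyM.ConcEq

theorem W_two (a b : Ltr) : W [a, b] = E b * E a := by
  rw [W_cons, W_single]

theorem z_mem_Q : E .z ∈ Q := by
  have h : E .z = W [.X0, .Z0, .X0, .Z0] := by rw [w_z, W_single]
  rw [h, W_cons, W_cons, W_cons, W_single]
  have hX : E .X0 ∈ Q := E_mem_Q rfl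
  have hZ : E .Z0 ∈ Q := E_mem_Q rfl
  exact Q.mul_mem (Q.mul_mem (Q.mul_mem hZ hX) hZ) hX

theorem z_mem_C : E .z ∈ C := Q_le_C z_mem_Q

theorem p_mem : E .p ∈ C := E_mem_C rfl

theorem step {a b : Ltr} (h : W [a, .p] = W [b]) (ha : E a ∈ C) : E b ∈ C := by
  rw [W_two, W_single] at h
  rw [← h]
  exact C.mul_mem p_mem ha

theorem p2_mem : E .p2 ∈ C := step w_p2 p_mem

theorem p3_mem : E .p3 ∈ C := step w_p3 p2_mem

theorem p4_mem : E .p4 ∈ C := step w_p4 p3_mem

theorem p5_mem : E .p5 ∈ C := step w_p5 p4_mem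

theorem p6_mem : E .p6 ∈ C := step w_p6 p5_mem

theorem p7_mem : E .p7 ∈ C := step w_p7 p6_mem

theorem p8_mem : E .p8 ∈ C := step w_p8 p7_mem

theorem p9_mem : E .p9 ∈ C := step w_p9 p8_mem

theorem p10_mem : E .p10 ∈ C := step w_p10 p9_mem

theorem eq_inv {a b : Ltr} (h : W [a, b] = W []) : E b = (E a)⁻¹ := by
  rw [W_two, W_nil] at h
  exact eq_inv_of_mul_eq_one_left h

theorem hi_eq : E .hi = (E .h)⁻¹ := eq_inv w_hi

theorem xii_eq : E .xii = (E .xi)⁻¹ := eq_inv w_xii

theorem taui_eq : E .taui = (E .tau)⁻¹ := eq_inv w_taui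

/-- the letters different from `τ`, `τ⁻¹` -/
def noT : Ltr → Bool
  | .tau => false
  | .taui => false
  | _ => true

theorem E_mem_C_of {l : Ltr} (h : noT l = true) : E l ∈ C := by
  cases l
  case z => exact z_mem_C
  case p2 => exact p2_mem
  case p3 => exact p3_mem
  case p4 => exact p4_mem
  case p5 => exact p5_mem
  case p6 => exact p6_mem
  case p7 => exact p7_mem
  case p8 => exact p8_mem
  case p9 => exact p9_mem
  case p10 => exact p10_mem
  case hi => rw [hi_eq]; exact C.inv_mem (E_mem_C rfl)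
  case xii => rw [xii_eq]; exact C.inv_mem (E_mem_C rfl)
  case tau => exact absurd h (by decide)
  case taui => exact absurd h (by decide)
  all_goals exact E_mem_C rfl

theorem C_le_G : C ≤ M.G := fun _ h => Subgroup.subset_closure (Or.inl h)

theorem tau_mem_G : E .tau ∈ M.G := Subgroup.subset_closure (Or.inr rfl)

theorem E_mem_G (l : Ltr) : E l ∈ M.G := by
  by_cases h : noT l = true
  · exact C_le_G (E_mem_C_of h)
  · cases l
    case tau => exact tau_mem_G
    case taui => rw [taui_eq]; exact M.G.inv_mem tau_mem_G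
    all_goals exact absurd rfl h

theorem W_mem_C_of {v : List Ltr} (h : v.all noT = true) : W v ∈ C :=
  W_mem_C fun l hl => E_mem_C_of (List.all_eq_true.1 h l hl)

theorem W_mem_G (v : List Ltr) : W v ∈ M.G := by
  induction v with
  | nil => exact M.G.one_mem
  | cons l v ih => rw [W_cons]; exact M.G.mul_mem ih (E_mem_G l)

theorem W_mem_Q_of {v : List Ltr} (h : v.all (fun l => l.isQ) = true) : W v ∈ Q := by
  induction v with
  | nil => exact Q.one_mem
  | cons l v ih =>
    rw [List.all_cons, Bool.and_eq_true] at h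
    rw [W_cons]
    exact Q.mul_mem (ih h.2) (E_mem_Q h.1)

end Cfsg.Agent.BabyM.InstMem
end

-- part: BM/StageWRel
section
set_option linter.all false
open scoped Cfsg.Agent.FastGrp

-- part: BM/StageWLong
section
/-!
# S1704, stage W: kernel checks of the long relators on the vector of the base
-/

set_option autoImplicit false
set_option Elab.async false

namespace Cfsg.Agent.BM.StageW

open Cfsg.Agent.Monster.VecEngine Cfsg.Agent.BabyM.Conc Cfsg.Agent.BabyM.WordsInst Cfsg.Spor.BabyMonster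

/-- The word of the spider element. -/
def sp : List Ltr := tw .t10 ++ tw .t9 ++ tw .t5 ++ tw .t7 ++ tw .t6 ++ tw .t5 ++ tw .t3 ++ tw .t4 ++ tw .t5

/-- The first Coxeter element of type `E₇`. -/
def ea : List Ltr := tw .t9 ++ tw .t8 ++ tw .t7 ++ tw .t6 ++ tw .t3 ++ tw .t4 ++ tw .t5

/-- The second Coxeter element of type `E₇`. -/
def eb : List Ltr := tw .t11 ++ tw .t10 ++ tw .t9 ++ tw .t6 ++ tw .t3 ++ tw .t4 ++ tw .t5

theorem sp_chk : checkFix ((sp ++ sp ++ sp ++ sp ++ sp ++ sp ++ sp ++ sp ++ sp ++ sp).map Ltr.prog) vB = true :=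
  Cfsg.Agent.BMx.Low.fix_of_eqF (by decide +kernel)

theorem ea_chk : checkFix ((ea ++ ea ++ ea ++ ea ++ ea ++ ea ++ ea ++ ea ++ ea).map Ltr.prog) vB = true :=
  Cfsg.Agent.BMx.Low.fix_of_eqF (by decide +kernel)

theorem eb_chk : checkFix ((eb ++ eb ++ eb ++ eb ++ eb ++ eb ++ eb ++ eb ++ eb).map Ltr.prog) vB = true :=
  Cfsg.Agent.BMx.Low.fix_of_eqF (by decide +kernel)

end Cfsg.Agent.BM.StageW
end

-- part: BM/StageWRel
section
/-!
# S1704, stage W: the relators of the presented Baby Monster hold in the concrete model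
-/

set_option autoImplicit false

namespace Cfsg.Agent.BM.StageW

open Cfsg.Agent.Monster.VecEngine Cfsg.Agent.BabyM.Conc Cfsg.Agent.BabyM.Model Cfsg.Agent.BabyM.Inst
  Cfsg.Agent.BabyM.InstMem Cfsg.Agent.BabyM.WordsInst Cfsg.Spor Cfsg.Spor.BabyMonster

/-- The images of the generators. -/
noncomputable def x (t : Gen) : M.G := ⟨W (tw t), W_mem_G _⟩

/-- The value of a word in the group of the model. -/
noncomputable def Wg (v : List Ltr) : M.G := ⟨W v, W_mem_G _⟩

theorem Wg_append (v w : List Ltr) : Wg (v ++ w) = Wg w * Wg v := Subtype.ext (W_append v w)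

theorem Wg_nil : Wg [] = 1 := Subtype.ext W_nil

theorem Wg_tw (t : Gen) : Wg (tw t) = x t := rfl

section

variable {K₀ : Type} [Group K₀] (A : BAll M K₀) (O : base.Ok)

include A O

theorem eq_of_chk {v w : List Ltr} (h : chk v w = true) : Wg v = Wg w :=
  Subtype.ext (eq_of_check A O (W_mem_G _) (W_mem_G _) h)

theorem one_of_chk {v : List Ltr} (h : checkFix (v.map Ltr.prog) vB = true) : Wg v = 1 :=
  Subtype.ext (eq_one A O (W_mem_G _) h)

theorem sq_of {a : Gen} (h : chk (tw a ++ tw a) [] = true) : x a * x a = 1 := by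
  have := eq_of_chk A O h
  rwa [Wg_append, Wg_nil, Wg_tw] at this

theorem comm_of {a b : Gen} (h : chk (tw a ++ tw b) (tw b ++ tw a) = true) : x a * x b = x b * x a := by
  have := eq_of_chk A O h
  rw [Wg_append, Wg_append, Wg_tw, Wg_tw] at this
  exact this.symm

theorem braid_of {a b : Gen} (h : chk (tw a ++ tw b ++ tw a) (tw b ++ tw a ++ tw b) = true) :
    x a * x b * x a = x b * x a * x b := by
  have := eq_of_chk A O h
  rw [Wg_append, Wg_append, Wg_append, Wg_append, Wg_tw, Wg_tw] at this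
  simpa only [mul_assoc] using this

theorem sq (a : Gen) : x a * x a = 1 := by
  cases a
  · exact sq_of A O s1
  · exact sq_of A O s2
  · exact sq_of A O s3
  · exact sq_of A O s4
  · exact sq_of A O s5
  · exact sq_of A O s6
  · exact sq_of A O s7
  · exact sq_of A O s8
  · exact sq_of A O s9
  · exact sq_of A O s10
  · exact sq_of A O s11

theorem two_of {a b : Gen} (h : chk (tw a ++ tw b) (tw b ++ tw a) = true) : (x a * x b) ^ 2 = 1 := by
  have h1 := comm_of A O h
  calc (x a * x b) ^ 2 = x a * (x b * x a) * x b := by rw [pow_two]; simp only [mul_assoc]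
    _ = (x a * x a) * (x b * x b) := by rw [← h1]; simp only [mul_assoc]
    _ = 1 := by rw [sq A O, sq A O, one_mul]

theorem three_of {a b : Gen} (h : chk (tw a ++ tw b ++ tw a) (tw b ++ tw a ++ tw b) = true) :
    (x a * x b) ^ 3 = 1 := by
  have h1 := braid_of A O h
  calc (x a * x b) ^ 3 = (x a * x b * x a) * (x b * x a * x b) := by
        rw [pow_succ, pow_two]; simp only [mul_assoc]
    _ = (x b * x a * x b) * (x b * x a * x b) := by rw [h1]
    _ = x b * x a * (x b * x b) * (x a * x b) := by simp only [mul_assoc]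
    _ = x b * (x a * x a) * x b := by rw [sq A O b]; simp only [mul_assoc, one_mul]
    _ = 1 := by rw [sq A O a, mul_one, sq A O b]

theorem pow_swap {a b : Gen} {m : ℕ} (h : (x a * x b) ^ m = 1) : (x b * x a) ^ m = 1 := by
  have e : x b * x a = (x a * x b)⁻¹ := by
    rw [mul_inv_rev, ← eq_inv_of_mul_eq_one_left (sq A O a), ← eq_inv_of_mul_eq_one_left (sq A O b)]
  rw [e, inv_pow, h, inv_one]

theorem cox (a b : Gen) : (x a * x b) ^ coxLabel edges a b = 1 := by
  cases a <;> cases b
  · exact (pow_one _).trans (sq A O _)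
  · exact three_of A O c1_2
  · exact two_of A O c1_3
  · exact two_of A O c1_4
  · exact two_of A O c1_5
  · exact two_of A O c1_6
  · exact two_of A O c1_7
  · exact two_of A O c1_8
  · exact two_of A O c1_9
  · exact two_of A O c1_10
  · exact two_of A O c1_11
  · exact pow_swap A O (three_of A O c1_2)
  · exact (pow_one _).trans (sq A O _)
  · exact three_of A O c2_3
  · exact two_of A O c2_4
  · exact two_of A O c2_5
  · exact two_of A O c2_6
  · exact two_of A O c2_7
  · exact two_of A O c2_8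
  · exact two_of A O c2_9
  · exact two_of A O c2_10
  · exact two_of A O c2_11
  · exact pow_swap A O (two_of A O c1_3)
  · exact pow_swap A O (three_of A O c2_3)
  · exact (pow_one _).trans (sq A O _)
  · exact three_of A O c3_4
  · exact two_of A O c3_5
  · exact two_of A O c3_6
  · exact two_of A O c3_7
  · exact two_of A O c3_8
  · exact two_of A O c3_9
  · exact two_of A O c3_10
  · exact two_of A O c3_11
  · exact pow_swap A O (two_of A O c1_4)
  · exact pow_swap A O (two_of A O c2_4)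
  · exact pow_swap A O (three_of A O c3_4)
  · exact (pow_one _).trans (sq A O _)
  · exact three_of A O c4_5
  · exact two_of A O c4_6
  · exact two_of A O c4_7
  · exact two_of A O c4_8
  · exact two_of A O c4_9
  · exact two_of A O c4_10
  · exact two_of A O c4_11
  · exact pow_swap A O (two_of A O c1_5)
  · exact pow_swap A O (two_of A O c2_5)
  · exact pow_swap A O (two_of A O c3_5)
  · exact pow_swap A O (three_of A O c4_5)
  · exact (pow_one _).trans (sq A O _)
  · exact three_of A O c5_6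
  · exact two_of A O c5_7
  · exact two_of A O c5_8
  · exact three_of A O c5_9
  · exact two_of A O c5_10
  · exact two_of A O c5_11
  · exact pow_swap A O (two_of A O c1_6)
  · exact pow_swap A O (two_of A O c2_6)
  · exact pow_swap A O (two_of A O c3_6)
  · exact pow_swap A O (two_of A O c4_6)
  · exact pow_swap A O (three_of A O c5_6)
  · exact (pow_one _).trans (sq A O _)
  · exact three_of A O c6_7
  · exact two_of A O c6_8
  · exact two_of A O c6_9
  · exact two_of A O c6_10
  · exact two_of A O c6_11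
  · exact pow_swap A O (two_of A O c1_7)
  · exact pow_swap A O (two_of A O c2_7)
  · exact pow_swap A O (two_of A O c3_7)
  · exact pow_swap A O (two_of A O c4_7)
  · exact pow_swap A O (two_of A O c5_7)
  · exact pow_swap A O (three_of A O c6_7)
  · exact (pow_one _).trans (sq A O _)
  · exact three_of A O c7_8
  · exact two_of A O c7_9
  · exact two_of A O c7_10
  · exact two_of A O c7_11
  · exact pow_swap A O (two_of A O c1_8)
  · exact pow_swap A O (two_of A O c2_8)
  · exact pow_swap A O (two_of A O c3_8)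
  · exact pow_swap A O (two_of A O c4_8)
  · exact pow_swap A O (two_of A O c5_8)
  · exact pow_swap A O (two_of A O c6_8)
  · exact pow_swap A O (three_of A O c7_8)
  · exact (pow_one _).trans (sq A O _)
  · exact two_of A O c8_9
  · exact two_of A O c8_10
  · exact two_of A O c8_11
  · exact pow_swap A O (two_of A O c1_9)
  · exact pow_swap A O (two_of A O c2_9)
  · exact pow_swap A O (two_of A O c3_9)
  · exact pow_swap A O (two_of A O c4_9)
  · exact pow_swap A O (three_of A O c5_9)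
  · exact pow_swap A O (two_of A O c6_9)
  · exact pow_swap A O (two_of A O c7_9)
  · exact pow_swap A O (two_of A O c8_9)
  · exact (pow_one _).trans (sq A O _)
  · exact three_of A O c9_10
  · exact two_of A O c9_11
  · exact pow_swap A O (two_of A O c1_10)
  · exact pow_swap A O (two_of A O c2_10)
  · exact pow_swap A O (two_of A O c3_10)
  · exact pow_swap A O (two_of A O c4_10)
  · exact pow_swap A O (two_of A O c5_10)
  · exact pow_swap A O (two_of A O c6_10)
  · exact pow_swap A O (two_of A O c7_10)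
  · exact pow_swap A O (two_of A O c8_10)
  · exact pow_swap A O (three_of A O c9_10)
  · exact (pow_one _).trans (sq A O _)
  · exact three_of A O c10_11
  · exact pow_swap A O (two_of A O c1_11)
  · exact pow_swap A O (two_of A O c2_11)
  · exact pow_swap A O (two_of A O c3_11)
  · exact pow_swap A O (two_of A O c4_11)
  · exact pow_swap A O (two_of A O c5_11)
  · exact pow_swap A O (two_of A O c6_11)
  · exact pow_swap A O (two_of A O c7_11)
  · exact pow_swap A O (two_of A O c8_11)
  · exact pow_swap A O (two_of A O c9_11)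
  · exact pow_swap A O (three_of A O c10_11)
  · exact (pow_one _).trans (sq A O _)

theorem spider : (x .t5 * x .t4 * x .t3 * x .t5 * x .t6 * x .t7 * x .t5 * x .t9 * x .t10) ^ 10 = 1 := by
  have h := one_of_chk A O sp_chk
  have e : Wg sp = x .t5 * x .t4 * x .t3 * x .t5 * x .t6 * x .t7 * x .t5 * x .t9 * x .t10 := by
    unfold sp
    simp only [Wg_append, Wg_tw, mul_assoc]
  rw [← e]
  simp only [Wg_append] at h
  rw [← h]
  simp only [pow_succ, pow_zero, one_mul, mul_assoc]

theorem e7a : (x .t5 * x .t4 * x .t3 * x .t6 * x .t7 * x .t8 * x .t9) ^ 9 = 1 := by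
  have h := one_of_chk A O ea_chk
  have e : Wg ea = x .t5 * x .t4 * x .t3 * x .t6 * x .t7 * x .t8 * x .t9 := by
    unfold ea
    simp only [Wg_append, Wg_tw, mul_assoc]
  rw [← e]
  simp only [Wg_append] at h
  rw [← h]
  simp only [pow_succ, pow_zero, one_mul, mul_assoc]

theorem e7b : (x .t5 * x .t4 * x .t3 * x .t6 * x .t9 * x .t10 * x .t11) ^ 9 = 1 := by
  have h := one_of_chk A O eb_chk
  have e : Wg eb = x .t5 * x .t4 * x .t3 * x .t6 * x .t9 * x .t10 * x .t11 := by
    unfold eb
    simp only [Wg_append, Wg_tw, mul_assoc]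
  rw [← e]
  simp only [Wg_append] at h
  rw [← h]
  simp only [pow_succ, pow_zero, one_mul, mul_assoc]

/-- **The relators of the presented Baby Monster hold in the model.** -/
theorem rel : ∀ r ∈ coxRelators BabyMonster.edges ∪ {r | r ∈ BabyMonster.extra}, FreeGroup.lift x r = 1 := by
  rintro r (⟨a, -, b, -, rfl⟩ | hr)
  · rw [map_pow, map_mul, FreeGroup.lift_apply_of, FreeGroup.lift_apply_of]
    exact cox A O a b
  · have hr' : r ∈ BabyMonster.extra := hr
    unfold BabyMonster.extra at hr'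
    simp only [List.mem_cons, List.not_mem_nil, or_false] at hr'
    rcases hr' with rfl | rfl | rfl
    · simpa only [map_pow, map_mul, FreeGroup.lift_apply_of] using spider A O
    · simpa only [map_pow, map_mul, FreeGroup.lift_apply_of] using e7a A O
    · simpa only [map_pow, map_mul, FreeGroup.lift_apply_of] using e7b A O

/-- The homomorphism from the presented Baby Monster to the group of the model. -/
noncomputable def hom : Spor.BabyMonster →* M.G := PresentedGroup.toGroup (rel A O)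

theorem hom_of (t : Gen) : hom A O (PresentedGroup.of t) = x t := PresentedGroup.toGroup.of (rel A O)

/-- The homomorphism is surjective as soon as the images of the generators generate. -/
theorem hom_surjective (h : Subgroup.closure (Set.range x) = ⊤) : Function.Surjective (hom A O) := by
  have h1 : Subgroup.closure (Set.range x) ≤ (hom A O).range := by
    rw [Subgroup.closure_le]
    rintro _ ⟨t, rfl⟩
    exact ⟨PresentedGroup.of t, hom_of A O t⟩
  rw [h, top_le_iff, MonoidHom.range_eq_top] at h1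
  exact h1

end

end Cfsg.Agent.BM.StageW
end
end

-- part: BabyM/WordsRel
section
set_option linter.all false
open scoped Cfsg.Agent.FastGrp

/-!
# Relators in the concrete model, from kernel checks on the vector of the base

`Sys α`: for every generator a word and an inverse word; `ev_eq` : the value of a reflected word `w : Wd α` is `W` of the word
`S.word (flat w false)`, which is trivial as soon as it fixes `vB`.
-/

set_option autoImplicit false

namespace Cfsg.Agent.BabyM.WordsRel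

open Cfsg.Agent.Monster.VecEngine Cfsg.Agent.Monster.VecSpace
  Cfsg.Agent.BabyM.Conc Cfsg.Agent.BabyM.Model Cfsg.Agent.BabyM.Inst
  Cfsg.Agent.BabyM.InstMem Cfsg.Agent.BabyM.WordsInst Cfsg.Agent.MonsterX.WordSub

/-- Words for the generators and their inverses. -/
structure Sys (α : Type) where
  /-- the word of a generator -/
  w : α → List Ltr
  /-- the word of the inverse of a generator -/
  wi : α → List Ltr

namespace Sys

variable {α : Type} (S : Sys α)

/-- the word of a letter -/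
def lw (p : α × Bool) : List Ltr := bif p.2 then S.wi p.1 else S.w p.1

/-- The word (application order) of a product of letters. -/
def word : List (α × Bool) → List Ltr
  | [] => []
  | p :: l => word l ++ S.lw p

theorem W_word (hi : ∀ x, W (S.w x ++ S.wi x) = 1) (l : List (α × Bool)) :
    W (S.word l) = (l.map (letter fun x => W (S.w x))).prod := by
  induction l with
  | nil => rfl
  | cons p l ih =>
    show W (S.word l ++ S.lw p) = _
    rw [W_append, List.map_cons, List.prod_cons, ih]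
    congr 1
    obtain ⟨x, b⟩ := p
    cases b
    · rfl
    · show W (S.wi x) = (W (S.w x))⁻¹
      have h := hi x
      rw [W_append] at h
      exact eq_inv_of_mul_eq_one_left h

theorem ev_eq (hi : ∀ x, W (S.w x ++ S.wi x) = 1) (w : Wd α) :
    ev (fun x => W (S.w x)) w = W (S.word (flat w false)) := by
  rw [S.W_word hi, (flat_prod _ w).1]

/-- The kernel check of a relator. -/
noncomputable def chk (w : Wd α) : Bool := checkFix ((S.word (flat w false)).map Ltr.prog) vB

/-- The kernel check of the inverse words. -/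
noncomputable def chkI (x : α) : Bool := checkFix ((S.w x ++ S.wi x).map Ltr.prog) vB

section

variable {K₀ : Type} [Group K₀] (A : BAll M K₀) (O : base.Ok)

include A O

theorem inv_of_chk {x : α} (h : S.chkI x = true) : W (S.w x ++ S.wi x) = 1 :=
  eq_one A O (W_mem_G _) h

end

/-- the generators as elements of `G` -/
noncomputable def gen (x : α) : M.G := ⟨W (S.w x), W_mem_G _⟩

theorem ev_coe (w : Wd α) : ((ev S.gen w : M.G) : V ≃ₗ[ℚ] V) = ev (fun x => W (S.w x)) w := by
  induction w with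
  | one => rfl
  | g x => rfl
  | mul a b ha hb =>
    show ((ev S.gen a * ev S.gen b : M.G) : V ≃ₗ[ℚ] V) = _
    rw [Subgroup.coe_mul, ha, hb]
    rfl
  | inv a ha =>
    show (((ev S.gen a)⁻¹ : M.G) : V ≃ₗ[ℚ] V) = _
    rw [Subgroup.coe_inv, ha]
    rfl
  | pow a n ha =>
    show ((ev S.gen a ^ n : M.G) : V ≃ₗ[ℚ] V) = _
    rw [Subgroup.coe_pow, ha]
    rfl

theorem ev_gen_of {w : Wd α} (h : ev (fun x => W (S.w x)) w = 1) : ev S.gen w = 1 := by
  apply Subtype.ext
  rw [S.ev_coe, h]
  rfl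

end Sys

end Cfsg.Agent.BabyM.WordsRel
end

-- part: H723/Pair/BTrace
section
prune_inst 0x7f00000000000000000000000000000000000000000000000000000000000000000000000000000000000000000000000000000000000000000000000000000000000000000000000000000000000000003fffffffffffffffffffffffffffbeffbdffffffff
set_option linter.all false
open scoped Cfsg.Agent.FastGrp

-- part: H723/Pair/Mono
section
/-!
# Traces of monomial words (helper723)

* `RM T` : every coordinate of `T f` is plus or minus a coordinate of `f`.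
* `RM.trace_eq` : the trace of such a map from its value on one vector with distinct positive coordinates.
* `trChk` : the trace of a word of permutations and sign changes as a kernel computation.
-/

set_option autoImplicit false

namespace Cfsg.Agent.H723.Pair

open Cfsg.Agent.Lib.PermNet Cfsg.Agent.Monster.VecEngine Cfsg.Agent.Monster.VecSpace
open Cfsg.Agent.Monster.PlaneArith

section abs

variable {ι : Type*}

/-- Every coordinate of `T f` is plus or minus a coordinate of `f`. -/
def RM (T : (ι → ℚ) ≃ₗ[ℚ] (ι → ℚ)) : Prop :=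
  ∀ i, ∃ j, ∃ s : ℚ, (s = 1 ∨ s = -1) ∧ ∀ f, T f i = s * f j

theorem RM.one : RM (1 : (ι → ℚ) ≃ₗ[ℚ] (ι → ℚ)) := fun i => ⟨i, 1, Or.inl rfl, fun f => (one_mul (f i)).symm⟩

theorem RM.mul {A B : (ι → ℚ) ≃ₗ[ℚ] (ι → ℚ)} (hA : RM A) (hB : RM B) : RM (A * B) := by
  intro i
  obtain ⟨j, s, hs, h1⟩ := hA i
  obtain ⟨k, t, ht, h2⟩ := hB j
  refine ⟨k, s * t, ?_, fun f => ?_⟩
  · rcases hs with rfl | rfl <;> rcases ht with rfl | rfl <;> norm_num
  · show A (B f) i = _
    rw [h1, h2, mul_assoc]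

theorem RM.eq_one {T : (ι → ℚ) ≃ₗ[ℚ] (ι → ℚ)} (h : RM T) {v : ι → ℚ} (hpos : ∀ i, 0 < v i)
    (hinj : Function.Injective v) (hv : T v = v) : T = 1 := by
  apply LinearEquiv.ext
  intro f
  funext i
  obtain ⟨j, s, hs, h1⟩ := h i
  have h2 := h1 v
  rw [hv] at h2
  rw [h1]
  rcases hs with rfl | rfl
  · rw [one_mul] at h2
    rw [hinj h2, one_mul]
    rfl
  · have h3 := hpos i
    have h4 := hpos j
    linarith

open Classical in
theorem RM.trace_eq [Fintype ι] {T : (ι → ℚ) ≃ₗ[ℚ] (ι → ℚ)} (h : RM T) {v : ι → ℚ}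
    (hpos : ∀ i, 0 < v i) (hinj : Function.Injective v) :
    LinearMap.trace ℚ (ι → ℚ) (T : (ι → ℚ) →ₗ[ℚ] (ι → ℚ)) =
      ((Finset.univ.filter fun i => T v i = v i).card : ℚ) - ((Finset.univ.filter fun i => T v i = - v i).card : ℚ) := by
  have h0 : LinearMap.trace ℚ (ι → ℚ) (T : (ι → ℚ) →ₗ[ℚ] (ι → ℚ)) =
      ∑ i, T (Pi.single i 1) i := by
    have h2 : LinearMap.trace ℚ (ι → ℚ) (T : (ι → ℚ) →ₗ[ℚ] (ι → ℚ)) =
        Matrix.trace (LinearMap.toMatrix' (T : (ι → ℚ) →ₗ[ℚ] (ι → ℚ))) := by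
      rw [LinearMap.trace_eq_matrix_trace ℚ (Pi.basisFun ℚ ι)]
      congr 1
    rw [h2]
    unfold Matrix.trace
    refine Finset.sum_congr rfl fun i _ => ?_
    rw [Matrix.diag_apply, LinearMap.toMatrix'_apply]
    rfl
  rw [h0, Finset.card_eq_sum_ones, Finset.card_eq_sum_ones, Finset.sum_filter, Finset.sum_filter, Nat.cast_sum,
    Nat.cast_sum, ← Finset.sum_sub_distrib]
  refine Finset.sum_congr rfl fun i _ => ?_
  obtain ⟨j, s, hs, h1⟩ := h i
  rw [h1 (Pi.single i 1)]
  have h2 := h1 v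
  by_cases hj : j = i
  · subst hj
    have h3 := hpos j
    rw [Pi.single_eq_same, mul_one]
    rcases hs with rfl | rfl
    · rw [one_mul] at h2
      rw [if_pos h2, if_neg (by rw [h2]; intro h4; linarith)]
      norm_num
    · rw [neg_one_mul] at h2
      rw [if_pos h2, if_neg (by rw [h2]; intro h4; linarith)]
      norm_num
  · rw [Pi.single_eq_of_ne hj, mul_zero]
    have h3 : v j ≠ v i := fun h => hj (hinj h)
    have h4 := hpos j
    have h5 := hpos i
    rw [if_neg, if_neg]
    · norm_num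
    · rw [h2]
      rcases hs with rfl | rfl
      · intro h6; linarith
      · intro h6
        apply h3
        linarith
    · rw [h2]
      rcases hs with rfl | rfl
      · intro h6
        apply h3
        linarith
      · intro h6; linarith

end abs

/-! ### Monomial programs -/

/-- Only permutations and sign changes. -/
noncomputable def isMono (P : Prog) : Bool :=
  Prog.rec (motive := fun _ => Bool) true (fun _ _ ih => ih) (fun _ _ ih => ih) (fun _ _ _ => false)
    (fun _ _ => false) (fun _ _ _ _ => false) P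

theorem sem_mono {P : Prog} (h : isMono P = true) (i : ℕ) :
    ∃ j, ∃ s : ℚ, (s = 1 ∨ s = -1) ∧ ∀ f : ℕ → ℚ, sem ℚ P f i = s * f j := by
  induction P generalizing i with
  | nil => exact ⟨i, 1, Or.inl rfl, fun f => (one_mul (f i)).symm⟩
  | perm N P ih =>
    obtain ⟨j, s, hs, h1⟩ := ih h i
    refine ⟨N.perm j, s, hs, fun f => ?_⟩
    show sem ℚ P (lcomp ℚ N.perm f) i = _
    rw [h1]
    rfl
  | neg M P ih =>
    obtain ⟨j, s, hs, h1⟩ := ih h i
    by_cases hM : M.testBit j = true
    · refine ⟨j, -s, ?_, fun f => ?_⟩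
      · rcases hs with rfl | rfl <;> norm_num
      · show sem ℚ P (lneg ℚ M f) i = _
        rw [h1]
        show s * (if M.testBit j then - f j else f j) = _
        rw [if_pos hM]; ring
    · refine ⟨j, s, hs, fun f => ?_⟩
      show sem ℚ P (lneg ℚ M f) i = _
      rw [h1]
      show s * (if M.testBit j then - f j else f j) = _
      rw [if_neg hM]
  | dbl M P ih => exact absurd (show false = true from h) (by simp)
  | half P ih => exact absurd (show false = true from h) (by simp)
  | bfly M d P ih => exact absurd (show false = true from h) (by simp)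

theorem RM.semE {m U : ℕ} {w : Pl} {P : Prog} (hP : GoodW m U w P) (h : isMono P = true) : RM (semE ℚ U P) := by
  intro i
  obtain ⟨j, s, hs, h1⟩ := sem_mono h i.1
  have h2 : ∀ f : Lane U → ℚ, Cfsg.Agent.Monster.VecSpace.semE ℚ U P f i = s * ext ℚ U f j := by
    intro f
    rw [semE_apply ℚ two_ne_zero hP]
    exact h1 _
  by_cases hj : U.testBit j = true
  · refine ⟨⟨j, hj⟩, s, hs, fun f => ?_⟩
    rw [h2, ext_apply_of_true ℚ hj]
  · exfalso
    obtain ⟨f, hf⟩ := (Cfsg.Agent.Monster.VecSpace.semE ℚ U P).surjective (fun _ => (1 : ℚ))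
    have h3 := h2 f
    rw [hf, ext_apply_of_not ℚ hj, mul_zero] at h3
    exact one_ne_zero h3

/-- Only permutations and sign changes. -/
noncomputable def allMono (w : List Prog) : Bool :=
  List.rec (motive := fun _ => Bool) true (fun P _ ih => and (isMono P) ih) w

theorem RM.wordE {m U : ℕ} {w : Pl} {l : List Prog} (hl : ∀ P ∈ l, GoodW m U w P) (h : allMono l = true) :
    RM (wordE ℚ U l) := by
  induction l with
  | nil => exact RM.one
  | cons P l ih =>
    have h' : and (isMono P) (allMono l) = true := h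
    rw [Bool.and_eq_true] at h'
    rw [wordE_cons]
    exact (ih (fun Q hQ => hl Q (by simp [hQ])) h'.2).mul (RM.semE (hl P (by simp)) h'.1)

/-! ### The vector of the numbers of the lanes -/

/-- The planes `b, b + 1, …` of the numbers `< 2 ^ k` (`j` of them), and `2 ^ k` on top. -/
noncomputable def idxP (k : ℕ) (j : ℕ) : ℕ → Pl :=
  Nat.rec (motive := fun _ => ℕ → Pl) (fun _ => seqP (full (Nat.pow 2 k)) fun u => .cons u (.sgn 0))
    (fun _ ih b => seqP (plane k b) fun u => .cons u (ih (Nat.succ b))) j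

theorem val_idxP (k j b i : ℕ) (hi : i < 2 ^ k) (hb : b + j = k) :
    val (idxP k j b) i = ((i >>> b : ℕ) : ℤ) + 2 ^ j := by
  induction j generalizing b with
  | zero =>
    show val (seqP (full (Nat.pow 2 k)) fun u => .cons u (.sgn 0)) i = _
    rw [seqP_eq, val_cons, val_sgn]
    have h1 : bt (full (Nat.pow 2 k)) i = 1 := bt_full _ _ hi
    have h2 : i >>> b = 0 := by
      rw [Nat.shiftRight_eq_div_pow, Nat.div_eq_of_lt]
      rw [add_zero] at hb
      rw [hb]; exact hi
    rw [h1, h2, bt_zero]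
    norm_num
  | succ j ih =>
    show val (seqP (plane k b) fun u => .cons u (idxP k j (b + 1))) i = _
    rw [seqP_eq, val_cons, ih (b + 1) (by omega)]
    have h1 : bt (plane k b) i = ((i >>> b % 2 : ℕ) : ℤ) := by
      unfold bt
      rw [testBit_plane k b i hi (by omega), Nat.testBit_eq_decide_div_mod_eq, Nat.shiftRight_eq_div_pow]
      by_cases h : i / 2 ^ b % 2 = 1
      · rw [if_pos (by simpa using h), h]; rfl
      · rw [if_neg (by simpa using h)]
        have : i / 2 ^ b % 2 = 0 := by omega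
        rw [this]; rfl
    rw [h1]
    have h2 : i >>> (b + 1) = (i >>> b) / 2 := by
      rw [Nat.shiftRight_succ]
    rw [h2, pow_succ]
    have h3 := Nat.mod_add_div (i >>> b) 2
    have h4 : ((i >>> b % 2 : ℕ) : ℤ) + 2 * (((i >>> b) / 2 : ℕ) : ℤ) = ((i >>> b : ℕ) : ℤ) := by exact_mod_cast h3
    linarith

/-- The vector with the entry `i + 2 ^ k` in the lane `i`. -/
noncomputable def idx (k : ℕ) : Pl := idxP k k 0

theorem val_idx {k i : ℕ} (hi : i < 2 ^ k) : val (idx k) i = (i : ℤ) + 2 ^ k := by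
  show val (idxP k k 0) i = _
  rw [val_idxP k k 0 i hi (by omega)]
  simp

section

variable {k U : ℕ} (hU : U < 2 ^ 2 ^ k)
include hU

theorem lane_lt (i : Lane U) : i.1 < 2 ^ k := by
  by_contra h
  have h1 : U.testBit i.1 = false := Nat.testBit_eq_false_of_lt (lt_of_lt_of_le hU
    (Nat.pow_le_pow_right (by norm_num) (not_lt.1 h)))
  rw [i.2] at h1
  exact absurd h1 (by simp)

theorem idx_pos (i : Lane U) : 0 < vecU ℚ U (idx k) i := by
  show (0 : ℚ) < ((val (idx k) i.1 : ℤ) : ℚ)
  rw [val_idx (lane_lt hU i)]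
  positivity

theorem idx_inj : Function.Injective (vecU ℚ U (idx k)) := by
  intro i j h
  have h1 : ((val (idx k) i.1 : ℤ) : ℚ) = ((val (idx k) j.1 : ℤ) : ℚ) := h
  rw [val_idx (lane_lt hU i), val_idx (lane_lt hU j)] at h1
  apply Subtype.ext
  have h2 : (i.1 : ℤ) + 2 ^ k = (j.1 : ℤ) + 2 ^ k := by exact_mod_cast h1
  omega

/-- A word of permutations and sign changes which fixes the vector `idx`. -/
theorem wordE_eq_one {m : ℕ} {w : Pl} {l : List Prog} (hl : ∀ P ∈ l, GoodW m U w P) (hm : allMono l = true)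
    (h : checkFix l (idx k) = true) : wordE ℚ U l = 1 :=
  (RM.wordE hl hm).eq_one (idx_pos hU) (idx_inj hU) (checkFixE_sound ℚ two_ne_zero hl h)

end

/-- The numbers of lanes fixed with sign plus (`a`) and minus (`b`). -/
noncomputable def trChk (U k : ℕ) (l : List Prog) (a b : ℕ) : Bool :=
  runL l (idx k) fun y =>
    and (cardIs k k a (Nat.land U (eqm (Nat.pow 2 k) y (idx k))))
      (cardIs k k b (Nat.land U (eqm (Nat.pow 2 k) y (neg (full (Nat.pow 2 k)) (idx k)))))

theorem card_lane_eq {U k a M : ℕ} (hU : U < 2 ^ 2 ^ k) (p : Lane U → Prop) [DecidablePred p] (ha : a < 2 ^ k)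
    (hM : ∀ i : Lane U, M.testBit i.1 = true ↔ p i) (h : cardIs k k a (Nat.land U M) = true) :
    (Finset.univ.filter p).card = a := by
  rw [← cardIs_sound ha h]
  refine Finset.card_bij (fun i _ => i.1) ?_ ?_ ?_
  · intro i hi
    rw [Finset.mem_filter] at hi
    rw [Finset.mem_filter, Finset.mem_range]
    refine ⟨lane_lt hU i, ?_⟩
    show (U &&& M).testBit i.1 = true
    rw [Nat.testBit_and, i.2, (hM i).2 hi.2]
    rfl
  · intro i _ j _ h1
    exact Subtype.ext h1
  · intro n hn
    rw [Finset.mem_filter] at hn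
    have h2 : (U &&& M).testBit n = true := hn.2
    rw [Nat.testBit_and, Bool.and_eq_true] at h2
    exact ⟨⟨n, h2.1⟩, Finset.mem_filter.2 ⟨Finset.mem_univ _, (hM _).1 h2.2⟩, rfl⟩

/-- **The trace of a monomial word.** -/
theorem trace_of_trChk {U k : ℕ} (hU : U < 2 ^ 2 ^ k) {m : ℕ} {w : Pl} {l : List Prog}
    (hl : ∀ P ∈ l, GoodW m U w P) (hm : allMono l = true) {a b : ℕ} (ha : a < 2 ^ k) (hb : b < 2 ^ k)
    (h : trChk U k l a b = true) :
    LinearMap.trace ℚ (Lane U → ℚ) (wordE ℚ U l : (Lane U → ℚ) →ₗ[ℚ] (Lane U → ℚ)) = (a : ℚ) - b := by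
  classical
  obtain ⟨y, hy, hk⟩ := runL_sound ℚ two_ne_zero l (fun P hP => (hl P hP).pres.ok) (idx k) _ h
  rw [Bool.and_eq_true] at hk
  have h1 : wordE ℚ U l (vecU ℚ U (idx k)) = vecU ℚ U y := by
    rw [wordE_apply ℚ two_ne_zero hl, vecU_eq, ← res_semL ℚ (fun P hP => (hl P hP).pres), ← hy]
    rfl
  rw [(RM.wordE hl hm).trace_eq (idx_pos hU) (idx_inj hU), h1]
  have e1 : (Finset.univ.filter fun i => vecU ℚ U y i = vecU ℚ U (idx k) i).card = a := by
    refine card_lane_eq hU _ ha (fun i => ?_) hk.1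
    rw [testBit_eqm]
    constructor
    · rintro ⟨-, h2⟩
      show ((val y i.1 : ℤ) : ℚ) = ((val (idx k) i.1 : ℤ) : ℚ)
      rw [h2]
    · intro h2
      have h3 : ((val y i.1 : ℤ) : ℚ) = ((val (idx k) i.1 : ℤ) : ℚ) := h2
      exact ⟨lane_lt hU i, by exact_mod_cast h3⟩
  have e2 : (Finset.univ.filter fun i => vecU ℚ U y i = - vecU ℚ U (idx k) i).card = b := by
    refine card_lane_eq hU _ hb (fun i => ?_) hk.2
    have h0 : val (neg (full (Nat.pow 2 k)) (idx k)) i.1 = - val (idx k) i.1 := by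
      rw [val_neg, if_pos]
      rw [testBit_full]
      simpa using lane_lt hU i
    rw [testBit_eqm, h0]
    constructor
    · rintro ⟨-, h2⟩
      show ((val y i.1 : ℤ) : ℚ) = - ((val (idx k) i.1 : ℤ) : ℚ)
      rw [h2]
      push_cast
      rfl
    · intro h2
      have h3 : ((val y i.1 : ℤ) : ℚ) = - ((val (idx k) i.1 : ℤ) : ℚ) := h2
      exact ⟨lane_lt hU i, by exact_mod_cast h3⟩
  rw [e1, e2]

end Cfsg.Agent.H723.Pair
end

-- part: H723/Pair/BTrace
section
/-!
# Traces of elements of orders 3, 5, 7, 11 of the Baby Monster in degree 4371 (helper723)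
-/

set_option autoImplicit false
set_option maxRecDepth 100000

namespace Cfsg.Agent.H723.Pair.BTrace

open Cfsg.Agent.BabyM.Conc Cfsg.Agent.BabyM Cfsg.Agent.Monster.VecSpace Cfsg.Agent.Monster.VecEngine

/-- the check for a word -/
theorem W_trace {v : List Ltr} (hm : allMono (v.map Ltr.prog) = true) {a b : ℕ} (ha : a < 2 ^ 13) (hb : b < 2 ^ 13)
    (h : trChk U 13 (v.map Ltr.prog) a b = true) :
    LinearMap.trace ℚ V (W v : V →ₗ[ℚ] V) = (a : ℚ) - b :=
  trace_of_trChk U_lt (good_progs v) hm ha hb h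

theorem W_eq_one {v : List Ltr} (hm : allMono (v.map Ltr.prog) = true)
    (h : checkFix (v.map Ltr.prog) (idx 13) = true) : W v = 1 :=
  wordE_eq_one U_lt (good_progs v) hm h

theorem W_pow (v : List Ltr) (n : ℕ) : W v ^ n = W (List.replicate n v).flatten := by
  induction n with
  | zero => rfl
  | succ n ih => rw [List.replicate_succ, List.flatten_cons, W_append, pow_succ, ih]

theorem W_ne_one {v : List Ltr} {a : ℚ} (h : LinearMap.trace ℚ V (W v : V →ₗ[ℚ] V) = a) (ha : a ≠ 4371) : W v ≠ 1 := by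
  intro h1
  rw [h1] at h
  apply ha
  rw [← h]
  show LinearMap.trace ℚ V (LinearMap.id) = 4371
  rw [LinearMap.trace_id, finrank_eq]
  norm_num

theorem trz : LinearMap.trace ℚ V (W [.z] : V →ₗ[ℚ] V) = 275 := by
  rw [W_trace (a := 2323) (b := 2048) (by decide +kernel) (by norm_num) (by norm_num) (by decide +kernel)]
  norm_num

end Cfsg.Agent.H723.Pair.BTrace
end
end
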