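import Cfsg.Prelude.Def_Sporadic
import Cfsg.Prelude.Def_Spor_B
import Mathlib.GroupTheory.Index
set_option linter.all false

/-!
Last step of S1704 (helper925): bounds for the presented Baby Monster and a surjection onto a simple group of the
order of the Baby Monster.
-/

set_option autoImplicit false

namespace Cfsg.Agent.BM.Final1704

/-- The order of a group with a finite subgroup of finite index. -/
theorem card_le {G : Type*} [Group G] (H : Subgroup G) (hf : Finite H) {m n : ℕ} (hm : Nat.card H ≤ m)
    (h0 : H.index ≠ 0) (hn : H.index ≤ n) : Finite G ∧ Nat.card G ≤ m * n := by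
  have e : Nat.card H * H.index = Nat.card G := H.card_mul_index
  have hpos : Nat.card G ≠ 0 := by
    rw [← e]
    exact Nat.mul_ne_zero Nat.card_pos.ne' h0
  exact ⟨Nat.finite_of_card_ne_zero hpos, by rw [← e]; exact Nat.mul_le_mul hm hn⟩

theorem isB_of_equiv {G X : Type*} [Group G] [Group X] (e : G ≃* X) (hX : IsB X) : IsB G := by
  obtain ⟨h1, h2⟩ := hX
  have : Nontrivial G := e.toEquiv.nontrivial
  exact ⟨e.isSimpleGroup, by rw [Nat.card_congr e.toEquiv, h2]⟩

/-- A group of order at most `|B|` with a homomorphism onto a group of type `B` is of type `B`. -/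
theorem isB_of_surjective {G X : Type*} [Group G] [Group X] (hG : Finite G)
    (hle : Nat.card G ≤ 4154781481226426191177580544000000) (hX : IsB X) (f : G →* X)
    (hf : Function.Surjective f) : IsB G := by
  have hfin : Finite X := Finite.of_surjective f hf
  have hcard : Nat.card X = 4154781481226426191177580544000000 := hX.2
  have h1 : Nat.card X ≤ Nat.card G := Nat.card_le_card_of_surjective f hf
  have h2 : Nat.card G = Nat.card X := le_antisymm (by rw [hcard]; exact hle) h1
  have hb : Function.Bijective f := (Nat.bijective_iff_surjective_and_card f).2 ⟨hf, h2⟩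
  exact isB_of_equiv (MulEquiv.ofBijective f hb) hX

/-- S1704 from stage A (`hf`, `hm`), stage B (`h0`, `hn`) and the model. -/
theorem isB_of_bounds {X : Type*} [Group X] (H : Subgroup Spor.BabyMonster) (hf : Finite H)
    (hm : Nat.card H ≤ 2 * 76532479683774853939200) (h0 : H.index ≠ 0) (hn : H.index ≤ 27143910000)
    (hX : IsB X) (f : Spor.BabyMonster →* X) (hs : Function.Surjective f) : IsB Spor.BabyMonster := by
  obtain ⟨hG, hle⟩ := card_le H hf hm h0 hn
  exact isB_of_surjective hG (by simpa using hle) hX f hs

end Cfsg.Agent.BM.Final1704
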