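import Cfsg.Agent.BM.CertBInst_mg
import Cfsg.Agent.BM.StageA_m3
import Cfsg.Agent.BM.CovA_m3
import Cfsg.Agent.BM.Psi
import Cfsg.Agent.BM.Fi22O_m3
import Cfsg.Agent.Lib.PermNetFast
import Cfsg.Agent.BM.Final1704
import Cfsg.Agent.BM.StageWRel_m3
import Cfsg.Agent.BabyM.Instance
import Cfsg.Agent.Prune
set_option linter.all false

section
prune_inst 0x7ffdfff9ffb9ffffffff7e7fffffdffffdffffffeffffbfbfffdffffffffef6ffbf5fbafffefd9ffffd7f63ebafc7fdffbffffffe3ffdd7fffff5ffc7fffffdfffffff3f7dffbffedfff7ffffbffffffffffffffffffffffffffffffffffffffffffffffffff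

-- part: BM/StageBFinal
section
prune_inst 0x20006004600000000800000002000020000001000040400020000000010900408040000002000002808c040018020040000001c0020800000a000800000000000008000000000000000000400000000000000000000000000000000000000000000000000
set_option linter.all false
open scoped Cfsg.Agent.FastGrp

-- part: BM/StageBFinalOf
section
/-!
# Stage B of S1704: the bound for the index of `H = ⟨t2, …, t11⟩` from the coverings and the index bounds

The facts of the certificate (`CertBInst`) and the assembly (`AssembleB.index_le_of_facts`) for the presented Baby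
Monster.
-/

set_option autoImplicit false

namespace Cfsg.Agent.BM.StageBFinalOf

open Cfsg.Agent.BM.AssembleB Cfsg.Agent.BM.CertB Cfsg.Agent.BM.FactsB Cfsg.Agent.BM.Psi
open Cfsg.Agent.BM.CoverChk (wd nth)
open Cfsg.Agent.BM.JBase (J)
open Cfsg.Spor

/-- The generators of the presented group. -/
def gB (t : BabyMonster.Gen) : Spor.BabyMonster := PresentedGroup.of t

theorem rel_gB : Rel gB := rel_of

theorem top_gB : Subgroup.closure (Set.range gB) = ⊤ := PresentedGroup.closure_range_of _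

/-- The bounds for the indices of the eight stabilisers in `Fi23`. -/
def nB : ℕ → ℕ
  | 0 => 31671
  | 1 => 891855360
  | 2 => 86316516
  | 3 => 86316516
  | 4 => 31671
  | 5 => 17074976256
  | 6 => 4502191005
  | 7 => 4502191005
  | _ => 0

theorem sum_nB : ∑ i ∈ Finset.range 8, nB i = 27143910000 := by decide

/-- **Stage B from the coverings and the index bounds.** -/
theorem main_of
    (cov : ∀ i < 8, ∀ S : Subgroup Spor.Fi23, (∀ u ∈ sg i, wd u ∈ S) → ∀ k : Spor.Fi23,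
      ∃ e < (ks i).length, ∃ s ∈ S, ∃ y ∈ J, k = s * wd (nth (ks i) e) * y)
    (ind : ∀ i < 8, ∀ S : Subgroup Spor.Fi23, (∀ u ∈ sg i, wd u ∈ S) → S.index ≠ 0 ∧ S.index ≤ nB i) :
    (HB gB).index ≠ 0 ∧ (HB gB).index ≤ 27143910000 := by
  rw [← sum_nB]
  exact index_le_of_facts armB_of armB_armB rel_gB top_gB 8 (CertB.w armB rel_gB) ⟨0, by norm_num, rfl⟩ sg ks
    (CertB.stab armB_of armB_armB rel_gB) (CertB.edge armB_of armB_armB rel_gB) cov nB ind

end Cfsg.Agent.BM.StageBFinalOf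
end

-- part: BM/StageBNode5
section
/-!
Index bound for a subgroup of `Spor.Fi23` given by words (generated file).
-/

set_option autoImplicit false
set_option maxRecDepth 100000

namespace Cfsg.Agent.BM.StageBNode5

open Cfsg.Agent.BM.Chain

/-- The generating words (hexadecimal, first letter = lowest digit). -/
def ws : List ℕ := [0x21, 0x31, 0x41, 0x51, 0x61, 0x91, 0xa956459765434567954659a1]

/-- The generating words as lists of letters. -/
def W : List (List ℕ) := [[1, 2],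
  [1, 3],
  [1, 4],
  [1, 5],
  [1, 6],
  [1, 9],
  [1, 10, 9, 5, 6, 4, 5, 9, 7, 6, 5, 4, 3, 4, 5, 6, 7, 9, 5, 4, 6, 5, 9, 10]]

theorem W_eq : W = ws.map dig := by decide +kernel

def c0 : List (List ℕ) := [[0],
  [2],
  [4],
  [6],
  [8],
  [10],
  [12]]
def l0 : List (List ℕ) := [[1, 2],
  [1, 3],
  [1, 4],
  [1, 5],
  [1, 6],
  [1, 9],
  [1, 10, 9, 5, 6, 4, 5, 9, 7, 6, 5, 4, 3, 4, 5, 6, 7, 9, 5, 4, 6, 5, 9, 10]]
theorem m0 : memB W c0 l0 = true := by decide +kernel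
theorem b0 : A23.lvlB l0 [] 0 702 5 = true := by decide +kernel

def c1 : List (List ℕ) := [[3, 5, 7, 10],
  [3, 0, 13, 10],
  [1, 11, 7, 4],
  [11, 7, 10, 8],
  [3, 0]]
def l1 : List (List ℕ) := [[3, 1, 4, 1, 5, 9],
  [3, 2, 10, 9, 5, 6, 4, 5, 9, 7, 6, 5, 4, 3, 4, 5, 6, 7, 9, 5, 4, 6, 5, 9, 10, 9],
  [2, 1, 9, 1, 5, 4],
  [9, 1, 5, 9, 1, 6],
  [3, 2]]
theorem m1 : memB W c1 l1 = true := by decide +kernel
theorem b1 : A23.lvlB l1 [0] 1 252 3 = true := by decide +kernel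

def c2 : List (List ℕ) := [[5, 9, 13, 10],
  [3, 5],
  [5, 3, 9, 7, 10, 4],
  [7, 5, 9, 2],
  [7, 11]]
def l2 : List (List ℕ) := [[4, 1, 6, 1, 10, 9, 5, 6, 4, 5, 9, 7, 6, 5, 4, 3, 4, 5, 6, 7, 9, 5, 4, 6, 5, 9, 10, 9],
  [3, 1, 4, 1],
  [4, 1, 3, 1, 6, 1, 5, 9, 1, 4],
  [5, 1, 4, 1, 6, 3],
  [5, 1, 9, 1]]
theorem m2 : memB W c2 l2 = true := by decide +kernel
theorem b2 : A23.lvlB l2 [1, 0] 2 90 2 = true := by decide +kernel

def c3 : List (List ℕ) := [[5, 7, 9, 11],
  [5, 9],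
  [3, 5, 7, 5, 9, 11, 7, 5, 13, 11, 7, 9, 2, 4, 6, 10, 12, 10]]
def l3 : List (List ℕ) := [[4, 1, 5, 1, 6, 1, 9, 1],
  [4, 1, 6, 1],
  [3, 1, 4, 1, 5, 1, 4, 1, 6, 1, 9, 1, 5, 1, 4, 1, 10, 9, 5, 6, 4, 5, 9, 7, 6, 5, 4, 3, 4, 5, 6, 7, 9, 5, 4, 6, 5, 9, 10, 1, 9, 1, 5, 1, 6, 3, 1, 4, 1, 5, 1, 9, 1, 10, 9, 5, 6, 4, 5, 9, 7, 6, 5, 4, 3, 4, 5, 6, 7, 9, 5, 4, 6, 5, 9, 10, 1, 9]]
theorem m3 : memB W c3 l3 = true := by decide +kernel
theorem b3 : A23.lvlB l3 [2, 1, 0] 3 24 2 = true := by decide +kernel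

def c4 : List (List ℕ) := [[9, 11],
  [7, 9],
  [7, 11]]
def l4 : List (List ℕ) := [[6, 1, 9, 1],
  [5, 1, 6, 1],
  [5, 1, 9, 1]]
theorem m4 : memB W c4 l4 = true := by decide +kernel
theorem b4 : A23.lvlB l4 [3, 2, 1, 0] 5 6 1 = true := by decide +kernel

def c5 : List (List ℕ) := [[7, 9, 11, 7]]
def l5 : List (List ℕ) := [[5, 1, 6, 1, 9, 1, 5, 1]]
theorem m5 : memB W c5 l5 = true := by decide +kernel
theorem b5 : A23.lvlB l5 [5, 3, 2, 1, 0] 4 2 1 = true := by decide +kernel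

/-- The order of a subgroup containing the words is at least 4585351680. -/
theorem card_ge (S : Subgroup Cfsg.Spor.Fi23) (h : ∀ w ∈ ws, Script.ev (OracleFi23.fgen 0) w ∈ S) :
    4585351680 ≤ Nat.card S := by
  have hW : ∀ w ∈ W, A23.wd w ∈ S := Act.mem_of_ev A23 (ws := ws) h W_eq
  have h0 := Act.Ch.nil A23 S
  have h1 := Act.Ch.step A23 h0 hW c0 l0 0 702 5 m0 b0
  have h2 := Act.Ch.step A23 h1 hW c1 l1 1 252 3 m1 b1
  have h3 := Act.Ch.step A23 h2 hW c2 l2 2 90 2 m2 b2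
  have h4 := Act.Ch.step A23 h3 hW c3 l3 3 24 2 m3 b3
  have h5 := Act.Ch.step A23 h4 hW c4 l4 5 6 1 m4 b4
  have h6 := Act.Ch.step A23 h5 hW c5 l5 4 2 1 m5 b5
  exact le_trans (by norm_num) (Act.Ch.card_le A23 h6)

/-- The index of a subgroup containing the words is at most 891855360. -/
theorem index_le (S : Subgroup Cfsg.Spor.Fi23) (h : ∀ w ∈ ws, Script.ev (OracleFi23.fgen 0) w ∈ S) :
    S.index ≠ 0 ∧ S.index ≤ 891855360 :=
  index_le_of_card Psi.card_Fi23 (card_ge S h) (by norm_num) (by norm_num)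

end Cfsg.Agent.BM.StageBNode5
end

-- part: BM/StageBV1
section
/-!
Index bound for a subgroup of `Spor.Fi23` given by words, by conjugation to `StageBNode5` (generated file).
-/

set_option autoImplicit false
set_option maxRecDepth 100000

namespace Cfsg.Agent.BM.StageBV1

open Cfsg.Agent.BM.Chain Cfsg.Agent.BM.ChainConj

/-- The generating words (hexadecimal, first letter = lowest digit). -/
def ws : List ℕ := [0x9564593456a9543234569543956a9546, 0x56345976543216756459345623459765432956459765436597654956]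

/-- The inverse words. -/
def vs : List ℕ := [0x6459a6593459654323459a6543954659, 0x65945679563456795465923456795432654395465761234567954365]

theorem vs_ok : invOk ws vs = true := by decide +kernel

/-- The conjugating word. -/
def g : ℕ := 0x6583579327858a294746a215a793529439437136413435946a81742a51a421895463658578525957896537936845181487a436a4a39593a72a14139476583579327858a294746a215a793529439437136413435946a81742a51a4898a26257838493a48147a89431a451a47428a75a9675457a7184657a3a76a29684528317434a6532a4673972a3178123437367564923a412919128a347a458341a748a34a2156424254525875623a86464158249146a3493141a27a39593a4a634a78418154863973569875952587585636459812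

/-- Its inverse. -/
def g' : ℕ := 0x21895463658578525957896537936845181487a436a4a39593a72a1413943a64194285146468a3265785254524246512a43a847a143854a743a821919214a3294657637343218713a2793764a2356a43471382548692a67a3a7564817a7545769a57a82474a154a13498a74184a39483875262a8984a15a24718a649534314631734934925397a512a647492a85872397538567493141a27a39593a4a634a784181548639735698759525875856364598124a15a24718a649534314631734934925397a512a647492a8587239753856

theorem g_ok : invOk [g] [g'] = true := by decide +kernel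

theorem t0 : chk1 ws vs g g' 0x21 [1, 2, 0, 2, 2, 1, 2, 1, 2, 2, 2, 2, 0, 3, 0, 2, 0, 3, 0, 3, 1] = true := by decide +kernel
theorem t1 : chk1 ws vs g g' 0x31 [1, 2, 0, 2, 0, 2, 2, 1, 2, 1, 2, 2, 2, 0, 2, 0, 2, 1, 2, 2, 2, 0] = true := by decide +kernel
theorem t2 : chk1 ws vs g g' 0x41 [3, 1, 2, 1, 2, 0, 3, 0, 2, 1, 3, 3, 1, 3, 0, 3, 0, 3, 0, 3, 3, 1, 2] = true := by decide +kernel
theorem t3 : chk1 ws vs g g' 0x51 [3, 0, 3, 3, 3, 3, 3, 1, 2, 2, 2, 2, 2, 0, 2, 2, 2, 2, 2, 1, 2] = true := by decide +kernel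
theorem t4 : chk1 ws vs g g' 0x61 [3, 0, 3, 3, 0, 2, 1, 2, 0, 3, 1, 2, 0, 2, 0, 2, 2, 2, 2, 1] = true := by decide +kernel
theorem t5 : chk1 ws vs g g' 0x91 [0, 3, 1, 3, 0, 2, 1, 2, 1, 3, 1, 2, 1, 2, 2, 1, 3, 1, 3, 1, 2, 1, 3, 3] = true := by decide +kernel
theorem t6 : chk1 ws vs g g' 0xa956459765434567954659a1 [0, 3, 3, 0, 3, 1, 3, 0, 3, 0, 3, 0, 3, 3, 1, 3, 1, 2, 0, 2, 1, 2, 2, 2, 1] = true := by decide +kernel

theorem all : conjB ws vs g g' StageBNode5.ws
    [[1, 2, 0, 2, 2, 1, 2, 1, 2, 2, 2, 2, 0, 3, 0, 2, 0, 3, 0, 3, 1], [1, 2, 0, 2, 0, 2, 2, 1, 2, 1, 2, 2, 2, 0, 2, 0, 2, 1, 2, 2, 2, 0], [3, 1, 2, 1, 2, 0, 3, 0, 2, 1, 3, 3, 1, 3, 0, 3, 0, 3, 0, 3, 3, 1, 2], [3, 0, 3, 3, 3, 3, 3, 1, 2, 2, 2, 2, 2, 0, 2, 2, 2, 2, 2, 1, 2], [3, 0, 3, 3, 0, 2, 1, 2, 0, 3, 1, 2, 0, 2, 0, 2, 2, 2, 2, 1], [0, 3, 1, 3, 0, 2, 1, 2, 1, 3, 1, 2, 1, 2, 2, 1, 3, 1, 3, 1, 2, 1, 3, 3], [0, 3, 3, 0, 3, 1, 3, 0, 3, 0, 3, 0, 3, 3, 1, 3, 1, 2, 0, 2, 1, 2, 2, 2,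 1]] = true :=
  conjB_cons t0 <| conjB_cons t1 <| conjB_cons t2 <| conjB_cons t3 <| conjB_cons t4 <| conjB_cons t5 <| conjB_cons t6 <| conjB_nil _ _ _ _

/-- The order of a subgroup containing the words is at least 4585351680. -/
theorem card_ge (S : Subgroup Cfsg.Spor.Fi23) (h : ∀ w ∈ ws, Script.ev (OracleFi23.fgen 0) w ∈ S) :
    4585351680 ≤ Nat.card S :=
  card_ge_of_conj StageBNode5.card_ge S h vs_ok g_ok all

/-- The index of a subgroup containing the words is at most 891855360. -/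
theorem index_le (S : Subgroup Cfsg.Spor.Fi23) (h : ∀ w ∈ ws, Script.ev (OracleFi23.fgen 0) w ∈ S) :
    S.index ≠ 0 ∧ S.index ≤ 891855360 :=
  index_le_of_card Psi.card_Fi23 (card_ge S h) (by norm_num) (by norm_num)

end Cfsg.Agent.BM.StageBV1
end

-- part: BM/StageBV2
section
/-!
Index bound for a subgroup of `Spor.Fi23` given by words, by conjugation to `StageBNode1` (generated file).
-/

set_option autoImplicit false
set_option maxRecDepth 100000

namespace Cfsg.Agent.BM.StageBV2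

open Cfsg.Agent.BM.Chain Cfsg.Agent.BM.ChainConj

/-- The generating words (hexadecimal, first letter = lowest digit). -/
def ws : List ℕ := [0x1, 0xa, 0x7, 0x8, 0x659456723456954327345695437695469569]

/-- The inverse words. -/
def vs : List ℕ := [0x1, 0xa, 0x7, 0x8, 0x965964596734596543723459654327654956]

theorem vs_ok : invOk ws vs = true := by decide +kernel

/-- The conjugating word. -/
def g : ℕ := 0xa954321654329543654956

/-- Its inverse. -/
def g' : ℕ := 0x659456345923456123459a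

theorem g_ok : invOk [g] [g'] = true := by decide +kernel

theorem t0 : chk1 ws vs g g' 0x1 [2, 8, 4, 2, 9, 4, 8, 4, 2, 9, 2] = true := by decide +kernel
theorem t1 : chk1 ws vs g g' 0x2 [8, 3, 8, 4, 2, 9, 4, 8, 4, 2, 9, 2, 9] = true := by decide +kernel
theorem t2 : chk1 ws vs g g' 0x3 [9, 9, 1, 9, 1, 5, 9, 4, 8, 4, 0, 8, 0, 8, 8] = true := by decide +kernel
theorem t3 : chk1 ws vs g g' 0x4 [9, 1, 9, 4, 0, 9, 4, 8, 4, 0, 8, 0, 8] = true := by decide +kernel
theorem t4 : chk1 ws vs g g' 0x5 [0, 9, 4, 0, 9, 4, 8, 4, 0, 8, 0] = true := by decide +kernel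
theorem t5 : chk1 ws vs g g' 0x6 [0] = true := by decide +kernel
theorem t6 : chk1 ws vs g g' 0x7 [4, 9, 4, 8, 4] = true := by decide +kernel
theorem t7 : chk1 ws vs g g' 0x8 [6] = true := by decide +kernel
theorem t8 : chk1 ws vs g g' 0x9 [4, 9, 2, 8, 4] = true := by decide +kernel

theorem all : conjB ws vs g g' StageBNode1.ws
    [[2, 8, 4, 2, 9, 4, 8, 4, 2, 9, 2], [8, 3, 8, 4, 2, 9, 4, 8, 4, 2, 9, 2, 9], [9, 9, 1, 9, 1, 5, 9, 4, 8, 4, 0, 8, 0, 8, 8], [9, 1, 9, 4, 0, 9, 4, 8, 4, 0, 8, 0, 8], [0, 9, 4, 0, 9, 4, 8, 4, 0, 8, 0], [0], [4, 9, 4, 8, 4], [6], [4, 9, 2, 8, 4]] = true :=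
  conjB_cons t0 <| conjB_cons t1 <| conjB_cons t2 <| conjB_cons t3 <| conjB_cons t4 <| conjB_cons t5 <| conjB_cons t6 <| conjB_cons t7 <| conjB_cons t8 <| conjB_nil _ _ _ _

/-- The order of a subgroup containing the words is at least 47377612800. -/
theorem card_ge (S : Subgroup Cfsg.Spor.Fi23) (h : ∀ w ∈ ws, Script.ev (OracleFi23.fgen 0) w ∈ S) :
    47377612800 ≤ Nat.card S :=
  card_ge_of_conj StageBNode1.card_ge S h vs_ok g_ok all

/-- The index of a subgroup containing the words is at most 86316516. -/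
theorem index_le (S : Subgroup Cfsg.Spor.Fi23) (h : ∀ w ∈ ws, Script.ev (OracleFi23.fgen 0) w ∈ S) :
    S.index ≠ 0 ∧ S.index ≤ 86316516 :=
  index_le_of_card Psi.card_Fi23 (card_ge S h) (by norm_num) (by norm_num)

end Cfsg.Agent.BM.StageBV2
end

-- part: BM/StageBV3
section
/-!
Index bound for a subgroup of `Spor.Fi23` given by words, by conjugation to `StageBNode1` (generated file).
-/

set_option autoImplicit false
set_option maxRecDepth 100000

namespace Cfsg.Agent.BM.StageBV3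

open Cfsg.Agent.BM.Chain Cfsg.Agent.BM.ChainConj

/-- The generating words (hexadecimal, first letter = lowest digit). -/
def ws : List ℕ := [0x7563459a1234597654321a345965432a9543a954a5987656a, 0x1234567956a9543213456723456a9543245695434567956a954656a9]

/-- The inverse words. -/
def vs : List ℕ := [0xa6567895a459a3459a234569543a1234567954321a9543657, 0x9a656459a6597654345965423459a6543276543123459a6597654321]

theorem vs_ok : invOk ws vs = true := by decide +kernel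

/-- The conjugating word. -/
def g : ℕ := 0xa9543216543276589543267a954365478956a7641421692378481459828917343567541584a81727563589a1637342a53538527468425a34324594836479849a469a7914a91784a9721386261424175a24a94514542968473471a2487a931a2579a713218948283853734927837

/-- Its inverse. -/
def g' : ℕ := 0x738729437358382849812317a9752a139a7842a17437486924541549a42a5714241626831279a48719a4197a964a94897463849542343a52486472583535a2437361a98536572718a4851457653437198289541848732961241467a659874563459a7623459856723456123459a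

theorem g_ok : invOk [g] [g'] = true := by decide +kernel

theorem t0 : chk1 ws vs g g' 0x1 [1, 1, 3, 1, 2, 1, 3, 1, 3, 0, 2, 1, 3, 1, 3, 0, 2, 2, 1, 2, 1, 3, 1, 2, 0, 0, 3, 1, 3] = true := by decide +kernel
theorem t1 : chk1 ws vs g g' 0x2 [2, 1, 1, 3, 1, 3, 1, 1, 3, 1, 2, 1, 3, 1, 3, 0, 2, 1, 3, 1, 3, 0, 2, 2, 1, 2, 1, 3, 1] = true := by decide +kernel
theorem t2 : chk1 ws vs g g' 0x3 [0, 3, 0, 3, 1, 3, 1, 2, 1, 1, 3, 1, 2, 0, 3, 0, 2, 0, 0, 3, 1, 3, 0, 2, 0, 2, 2, 1, 3] = true := by decide +kernel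
theorem t3 : chk1 ws vs g g' 0x4 [2, 1, 3, 3, 0, 3, 3, 1, 3, 1, 1, 2, 1, 3, 0, 2, 1, 3, 0, 3, 1, 2, 2, 1, 2, 0, 3, 0] = true := by decide +kernel
theorem t4 : chk1 ws vs g g' 0x5 [3, 0, 2, 0, 3, 0, 2, 1, 2, 1, 1, 3, 1, 3, 0, 2, 1, 2, 2, 1, 3, 1, 2, 0, 3, 0, 2, 1, 3, 0] = true := by decide +kernel
theorem t5 : chk1 ws vs g g' 0x6 [1, 2, 1, 3, 1, 3, 1, 1, 2, 0, 2, 0, 3, 0, 2, 2, 0, 0, 3, 1, 3, 1, 3, 1, 2, 2, 0, 2, 0, 3] = true := by decide +kernel
theorem t6 : chk1 ws vs g g' 0x7 [1, 1, 2, 1, 2, 1, 3, 1, 2, 1, 1, 2, 0, 3, 0, 3, 0, 0, 2, 0, 2, 2, 0, 0, 2, 0, 2, 1, 3] = true := by decide +kernel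
theorem t7 : chk1 ws vs g g' 0x8 [0, 3, 1, 3, 1, 1, 2, 1, 2, 1, 1, 3, 1, 3, 1, 2, 0, 2, 1, 2, 2, 0, 0, 3, 1, 3, 1, 3, 1, 2] = true := by decide +kernel
theorem t8 : chk1 ws vs g g' 0x9 [3, 1, 3, 3, 0, 3, 3, 1, 3, 1, 2, 0, 2, 0, 3, 1, 2, 2, 1, 2, 1, 3, 0, 2, 2, 0, 3, 0, 0] = true := by decide +kernel

theorem all : conjB ws vs g g' StageBNode1.ws
    [[1, 1, 3, 1, 2, 1, 3, 1, 3, 0, 2, 1, 3, 1, 3, 0, 2, 2, 1, 2, 1, 3, 1, 2, 0, 0, 3, 1, 3], [2, 1, 1, 3, 1, 3, 1, 1, 3, 1, 2, 1, 3, 1, 3, 0, 2, 1, 3, 1, 3, 0, 2, 2, 1, 2, 1, 3, 1], [0, 3, 0, 3, 1, 3, 1, 2, 1, 1, 3, 1, 2, 0, 3, 0, 2, 0, 0, 3, 1, 3, 0, 2, 0, 2, 2, 1, 3], [2, 1, 3, 3, 0, 3, 3, 1, 3, 1, 1, 2, 1, 3, 0, 2, 1, 3, 0, 3, 1, 2, 2, 1, 2, 0, 3, 0], [3, 0, 2, 0, 3, 0, 2, 1, 2, 1, 1, 3, 1, 3, 0, 2, 1, 2, 2, 1, 3, 1, 2, 0, 3, 0, 2, 1, 3, 0], [1, 2, 1, 3, 1, 3, 1, 1, 2, 0, 2, 0, 3, 0, 2, 2, 0, 0, 3, 1, 3, 1, 3, 1, 2, 2, 0, 2, 0, 3], [1, 1, 2, 1, 2, 1, 3, 1, 2, 1, 1, 2, 0, 3, 0, 3, 0, 0, 2,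 0, 2, 2, 0, 0, 2, 0, 2, 1, 3], [0, 3, 1, 3, 1, 1, 2, 1, 2, 1, 1, 3, 1, 3, 1, 2, 0, 2, 1, 2, 2, 0, 0, 3, 1, 3, 1, 3, 1, 2], [3, 1, 3, 3, 0, 3, 3, 1, 3, 1, 2, 0, 2, 0, 3, 1, 2, 2, 1, 2, 1, 3, 0, 2, 2, 0, 3, 0, 0]] = true :=
  conjB_cons t0 <| conjB_cons t1 <| conjB_cons t2 <| conjB_cons t3 <| conjB_cons t4 <| conjB_cons t5 <| conjB_cons t6 <| conjB_cons t7 <| conjB_cons t8 <| conjB_nil _ _ _ _

/-- The order of a subgroup containing the words is at least 47377612800. -/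
theorem card_ge (S : Subgroup Cfsg.Spor.Fi23) (h : ∀ w ∈ ws, Script.ev (OracleFi23.fgen 0) w ∈ S) :
    47377612800 ≤ Nat.card S :=
  card_ge_of_conj StageBNode1.card_ge S h vs_ok g_ok all

/-- The index of a subgroup containing the words is at most 86316516. -/
theorem index_le (S : Subgroup Cfsg.Spor.Fi23) (h : ∀ w ∈ ws, Script.ev (OracleFi23.fgen 0) w ∈ S) :
    S.index ≠ 0 ∧ S.index ≤ 86316516 :=
  index_le_of_card Psi.card_Fi23 (card_ge S h) (by norm_num) (by norm_num)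

end Cfsg.Agent.BM.StageBV3
end

-- part: BM/StageBNode3
section
/-!
Index bound for a subgroup of `Spor.Fi23` given by words (generated file).
-/

set_option autoImplicit false
set_option maxRecDepth 100000

namespace Cfsg.Agent.BM.StageBNode3

open Cfsg.Agent.BM.Chain

/-- The generating words (hexadecimal, first letter = lowest digit). -/
def ws : List ℕ := [0x15, 0x25, 0x35, 0x65, 0x75, 0x85, 0x95, 0xa5, 0x459a6597654567956a9545, 0x456734562345987654321234567895432654376545]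

/-- The generating words as lists of letters. -/
def W : List (List ℕ) := [[5, 1],
  [5, 2],
  [5, 3],
  [5, 6],
  [5, 7],
  [5, 8],
  [5, 9],
  [5, 10],
  [5, 4, 5, 9, 10, 6, 5, 9, 7, 6, 5, 4, 5, 6, 7, 9, 5, 6, 10, 9, 5, 4],
  [5, 4, 5, 6, 7, 3, 4, 5, 6, 2, 3, 4, 5, 9, 8, 7, 6, 5, 4, 3, 2, 1, 2, 3, 4, 5, 6, 7, 8, 9, 5, 4, 3, 2, 6, 5, 4, 3, 7, 6, 5, 4]]

theorem W_eq : W = ws.map dig := by decide +kernel

def c0 : List (List ℕ) := [[0],
  [2],
  [8],
  [4],
  [16],
  [10],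
  [18],
  [6],
  [12],
  [14]]
def l0 : List (List ℕ) := [[5, 1],
  [5, 2],
  [5, 7],
  [5, 3],
  [5, 4, 5, 9, 10, 6, 5, 9, 7, 6, 5, 4, 5, 6, 7, 9, 5, 6, 10, 9, 5, 4],
  [5, 8],
  [5, 4, 5, 6, 7, 3, 4, 5, 6, 2, 3, 4, 5, 9, 8, 7, 6, 5, 4, 3, 2, 1, 2, 3, 4, 5, 6, 7, 8, 9, 5, 4, 3, 2, 6, 5, 4, 3, 7, 6, 5, 4],
  [5, 6],
  [5, 9],
  [5, 10]]
theorem m0 : memB W c0 l0 = true := by decide +kernel
theorem b0 : A23.lvlB l0 [] 8006 66 3 = true := by decide +kernel

def c1 : List (List ℕ) := [[9, 12],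
  [3, 13, 15, 2],
  [13, 7, 14, 4],
  [11, 9, 7, 0],
  [9, 11, 6],
  [9, 19, 16, 7]]
def l1 : List (List ℕ) := [[7, 9],
  [2, 5, 9, 5, 10, 2],
  [9, 5, 6, 10, 5, 3],
  [8, 5, 7, 5, 6, 1],
  [7, 5, 8, 6],
  [7, 5, 4, 5, 6, 7, 3, 4, 5, 6, 2, 3, 4, 5, 9, 8, 7, 6, 5, 4, 3, 2, 1, 2, 3, 4, 5, 6, 7, 8, 9, 5, 4, 3, 2, 6, 5, 4, 3, 7, 6, 9, 10, 6, 5, 9, 7, 6, 5, 4, 5, 6, 7, 9, 5, 6, 10, 9, 5, 4, 6, 5]]
theorem m1 : memB W c1 l1 = true := by decide +kernel
theorem b1 : A23.lvlB l1 [8006] 8000 45 2 = true := by decide +kernel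

def c2 : List (List ℕ) := [[1, 11, 9, 7, 13, 10, 6],
  [7, 13, 7],
  [11, 15, 8],
  [5, 15, 19, 16, 10],
  [5]]
def l2 : List (List ℕ) := [[1, 5, 8, 5, 7, 5, 6, 5, 9, 8, 5, 6],
  [6, 5, 9, 5, 6, 5],
  [8, 5, 10, 7],
  [3, 5, 10, 5, 4, 5, 6, 7, 3, 4, 5, 6, 2, 3, 4, 5, 9, 8, 7, 6, 5, 4, 3, 2, 1, 2, 3, 4, 5, 6, 7, 8, 9, 5, 4, 3, 2, 6, 5, 4, 3, 7, 6, 9, 10, 6, 5, 9, 7, 6, 5, 4, 5, 6, 7, 9, 5, 6, 10, 9, 5, 4, 5, 8],
  [3, 5]]
theorem m2 : memB W c2 l2 = true := by decide +kernel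
theorem b2 : A23.lvlB l2 [8000, 8006] 8003 16 1 = true := by decide +kernel

def c3 : List (List ℕ) := [[1, 9, 7, 15, 12, 6, 9, 19],
  [5, 9, 7, 13, 15, 13, 7, 9],
  [11, 15],
  [5, 9, 7, 13, 7, 9, 11, 17],
  [1, 11],
  [5, 9, 7, 13, 7, 9, 11, 15]]
def l3 : List (List ℕ) := [[1, 5, 7, 5, 6, 5, 10, 9, 5, 6, 7, 5, 4, 5, 6, 7, 3, 4, 5, 6, 2, 3, 4, 5, 9, 8, 7, 6, 5, 4, 3, 2, 1, 2, 3, 4, 5, 6, 7, 8, 9, 5, 4, 3, 2, 6, 5, 4, 3, 7, 6, 5, 4, 5],
  [3, 5, 7, 5, 6, 5, 9, 5, 10, 5, 9, 5, 6, 5, 7, 5],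
  [8, 5, 10, 5],
  [3, 5, 7, 5, 6, 5, 9, 5, 6, 5, 7, 5, 8, 5, 4, 5, 9, 10, 6, 5, 9, 7, 6, 5, 4, 5, 6, 7, 9, 5, 6, 10, 9, 5, 4, 5],
  [1, 5, 8, 5],
  [3, 5, 7, 5, 6, 5, 9, 5, 6, 5, 7, 5, 8, 5, 10, 5]]
theorem m3 : memB W c3 l3 = true := by decide +kernel
theorem b3 : A23.lvlB l3 [8003, 8000, 8006] 0 14 1 = true := by decide +kernel

def c4 : List (List ℕ) := [[11, 17],
  [5, 15],
  [5, 11, 9, 7, 13, 7, 9, 11],
  [11, 15]]
def l4 : List (List ℕ) := [[8, 5, 4, 5, 9, 10, 6, 5, 9, 7, 6, 5, 4, 5, 6, 7, 9, 5, 6, 10, 9, 5, 4, 5],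
  [3, 5, 10, 5],
  [3, 5, 8, 5, 7, 5, 6, 5, 9, 5, 6, 5, 7, 5, 8, 5],
  [8, 5, 10, 5]]
theorem m4 : memB W c4 l4 = true := by decide +kernel
theorem b4 : A23.lvlB l4 [0, 8003, 8000, 8006] 3 6 1 = true := by decide +kernel

def c5 : List (List ℕ) := [[5, 17, 5, 11],
  [9, 7, 13, 7, 9, 11],
  [11, 15]]
def l5 : List (List ℕ) := [[3, 5, 4, 5, 9, 10, 6, 5, 9, 7, 6, 5, 4, 5, 6, 7, 9, 5, 6, 10, 9, 5, 4, 5, 3, 5, 8, 5],
  [7, 5, 6, 5, 9, 5, 6, 5, 7, 5, 8, 5],
  [8, 5, 10, 5]]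
theorem m5 : memB W c5 l5 = true := by decide +kernel
theorem b5 : A23.lvlB l5 [3, 0, 8003, 8000, 8006] 2 5 1 = true := by decide +kernel

def c6 : List (List ℕ) := [[9, 7, 13, 7, 9, 11],
  [9, 7, 15, 12, 6, 9],
  [11, 15]]
def l6 : List (List ℕ) := [[7, 5, 6, 5, 9, 5, 6, 5, 7, 5, 8, 5],
  [7, 5, 6, 5, 10, 9, 5, 6, 7, 5],
  [8, 5, 10, 5]]
theorem m6 : memB W c6 l6 = true := by decide +kernel
theorem b6 : A23.lvlB l6 [2, 3, 0, 8003, 8000, 8006] 4 6 1 = true := by decide +kernel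

def c7 : List (List ℕ) := [[11, 15]]
def l7 : List (List ℕ) := [[8, 5, 10, 5]]
theorem m7 : memB W c7 l7 = true := by decide +kernel
theorem b7 : A23.lvlB l7 [4, 2, 3, 0, 8003, 8000, 8006] 7 2 1 = true := by decide +kernel

/-- The order of a subgroup containing the words is at least 239500800. -/
theorem card_ge (S : Subgroup Cfsg.Spor.Fi23) (h : ∀ w ∈ ws, Script.ev (OracleFi23.fgen 0) w ∈ S) :
    239500800 ≤ Nat.card S := by
  have hW : ∀ w ∈ W, A23.wd w ∈ S := Act.mem_of_ev A23 (ws := ws) h W_eq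
  have h0 := Act.Ch.nil A23 S
  have h1 := Act.Ch.step A23 h0 hW c0 l0 8006 66 3 m0 b0
  have h2 := Act.Ch.step A23 h1 hW c1 l1 8000 45 2 m1 b1
  have h3 := Act.Ch.step A23 h2 hW c2 l2 8003 16 1 m2 b2
  have h4 := Act.Ch.step A23 h3 hW c3 l3 0 14 1 m3 b3
  have h5 := Act.Ch.step A23 h4 hW c4 l4 3 6 1 m4 b4
  have h6 := Act.Ch.step A23 h5 hW c5 l5 2 5 1 m5 b5
  have h7 := Act.Ch.step A23 h6 hW c6 l6 4 6 1 m6 b6
  have h8 := Act.Ch.step A23 h7 hW c7 l7 7 2 1 m7 b7
  exact le_trans (by norm_num) (Act.Ch.card_le A23 h8)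

/-- The index of a subgroup containing the words is at most 17074976256. -/
theorem index_le (S : Subgroup Cfsg.Spor.Fi23) (h : ∀ w ∈ ws, Script.ev (OracleFi23.fgen 0) w ∈ S) :
    S.index ≠ 0 ∧ S.index ≤ 17074976256 :=
  index_le_of_card Psi.card_Fi23 (card_ge S h) (by norm_num) (by norm_num)

end Cfsg.Agent.BM.StageBNode3
end

-- part: BM/StageBV5
section
/-!
Index bound for the node 5 of the stage B certificate (generated file): the words `ws` generate a conjugate of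
the group generated by the words of `StageBNode3`.
-/

set_option autoImplicit false
set_option maxRecDepth 100000

namespace Cfsg.Agent.BM.StageBV5

open Cfsg.Agent.BM.Chain Cfsg.Agent.BM.ConjIdx

/-- The generating words (hexadecimal, first letter = lowest digit). -/
def ws : List ℕ := [0x7659a4596756459876543257a, 0x74563459a563459765436459a564597654965a, 0x7459345623459123456a9543214593456a95432345695436594567659456a9547659]

/-- The inverse words. -/
def wsr : List ℕ := [0xa7523456789546576954a9567, 0xa569456795465a954634567954365a95436547, 0x9567459a65495676549563459654323459a6543954123459a6543219543265439547]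

/-- The conjugating word. -/
def gw : ℕ := 0x4321543657954326543768954a95678659a43215496372543965219a7645439a45678

/-- Its inverse. -/
def gwr : ℕ := 0x87654a9345467a91256934527369451234a95687659a4598673456234597563451234

/-- The products. -/
def css : List (List ℕ) := [
  [3, 2, 0, 0, 1, 0, 5, 1, 0, 2, 4, 2, 0],
  [1, 0, 0, 2, 0, 4, 3, 2, 1, 2, 0, 4],
  [1, 2, 2, 1, 2, 1, 0, 2, 2, 3, 5],
  [5, 4, 5, 4, 2, 3, 3, 5, 3, 3, 1, 3],
  [3, 5, 0, 1, 5, 3, 3, 1, 2, 3, 5, 4, 0],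
  [1, 5, 0, 5, 0, 2, 3, 5, 3, 1, 0, 1, 3, 3],
  [3, 2, 1, 2, 4, 0, 2, 1, 2, 4, 0, 0],
  [4, 5, 3, 4, 5, 4, 5, 4, 2, 2, 3, 1, 0],
  [3, 2, 4, 3, 2, 3, 4, 2, 4, 3, 1, 0, 2, 0],
  [5, 3, 2, 1, 0, 0, 1, 2, 4, 0, 2, 2, 0]]

theorem hr : wsr.map dig = ws.map (fun w => (dig w).reverse) := by decide +kernel

theorem hg : dig gwr = (dig gw).reverse := by decide +kernel

theorem hc : conjB gw gwr (ws ++ wsr) StageBNode3.ws css = true := by decide +kernel

/-- The index of a subgroup containing the words is at most 17074976256. -/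
theorem index_le (S : Subgroup Cfsg.Spor.Fi23) (h : ∀ w ∈ ws, Script.ev (OracleFi23.fgen 0) w ∈ S) :
    S.index ≠ 0 ∧ S.index ≤ 17074976256 :=
  index_le_of_conj h hr hg hc StageBNode3.index_le

end Cfsg.Agent.BM.StageBV5
end

-- part: BM/StageBV6
section
/-!
Index bound for the node 6 of the stage B certificate (generated file): the words `ws` generate a conjugate of
the group generated by the words of `StageBNode2`.
-/

set_option autoImplicit false
set_option maxRecDepth 100000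

namespace Cfsg.Agent.BM.StageBV6

open Cfsg.Agent.BM.Chain Cfsg.Agent.BM.ConjIdx

/-- The generating words (hexadecimal, first letter = lowest digit). -/
def ws : List ℕ := [0xa596756459876547659876568a, 0x34569a59456345923456a9543265465, 0x234567123456954321675695432673456954345695456956]

/-- The inverse words. -/
def wsr : List ℕ := [0xa865678956745678954657695a, 0x5645623459a65432954365495a96543, 0x659654596543459654376234596576123459654321765432]

/-- The conjugating word. -/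
def gw : ℕ := 0x12345678956a974563459a

/-- Its inverse. -/
def gwr : ℕ := 0xa954365479a65987654321

/-- The products. -/
def css : List (List ℕ) := [
  [1, 5, 1, 1, 1, 5, 1, 1, 1, 5, 1, 1],
  [1, 1, 2, 4, 2, 4, 5, 1, 2, 1, 5, 1],
  [1, 2, 4, 2, 4, 5, 1, 2, 1, 5, 1, 1],
  [1, 2, 4, 4, 2, 1, 5, 4, 5, 1, 2, 1],
  [0, 1, 1, 2, 4, 2, 4, 5, 1, 2, 1, 5, 1, 0],
  [4, 0, 2, 4, 2, 1, 0, 4, 5, 1, 5, 0, 1],
  [5, 1, 5, 0, 1, 0, 4, 0, 2, 4, 2],
  [4, 5, 4, 5, 4, 5, 0, 2, 1, 2, 1, 2, 1],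
  [0, 4, 0, 1, 1, 1, 0, 4, 4, 4, 0, 1, 0],
  [0, 4, 2, 1, 2, 1, 0, 4, 5, 4, 5, 1, 0]]

theorem hr : wsr.map dig = ws.map (fun w => (dig w).reverse) := by decide +kernel

theorem hg : dig gwr = (dig gw).reverse := by decide +kernel

theorem hc : conjB gw gwr (ws ++ wsr) StageBNode2.ws css = true := by decide +kernel

/-- The index of a subgroup containing the words is at most 4502191005. -/
theorem index_le (S : Subgroup Cfsg.Spor.Fi23) (h : ∀ w ∈ ws, Script.ev (OracleFi23.fgen 0) w ∈ S) :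
    S.index ≠ 0 ∧ S.index ≤ 4502191005 :=
  index_le_of_conj h hr hg hc StageBNode2.index_le

end Cfsg.Agent.BM.StageBV6
end

-- part: BM/StageBV7
section
/-!
Index bound for the node 7 of the stage B certificate (generated file): the words `ws` generate a conjugate of
the group generated by the words of `StageBNode2`.
-/

set_option autoImplicit false
set_option maxRecDepth 100000

namespace Cfsg.Agent.BM.StageBV7

open Cfsg.Agent.BM.Chain Cfsg.Agent.BM.ConjIdx

/-- The generating words (hexadecimal, first letter = lowest digit). -/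
def ws : List ℕ := [0x65934561234597654321765432659456345976543567, 0x956459a9745634598765438756459a7645987654659765a9876a]

/-- The inverse words. -/
def wsr : List ℕ := [0x76534567954365495623456712345679543216543956, 0xa6789a5679564567895467a9546578345678954365479a954659]

/-- The conjugating word. -/
def gw : ℕ := 0x1232145432678a95432165432795674563459a5965432

/-- Its inverse. -/
def gwr : ℕ := 0x2345695a95436547659723456123459a8762345412321

/-- The products. -/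
def css : List (List ℕ) := [
  [2, 1, 0, 1, 0, 1, 0, 0, 1, 0, 0, 1, 0, 0, 1, 0, 0, 1, 0, 0, 1, 0, 0, 1, 0, 1, 2, 1, 0],
  [2, 1, 2, 1, 0, 0, 1, 0, 0, 1, 0, 0, 1, 0, 0, 1, 0, 0, 1, 0, 0, 1, 0, 0, 0, 1, 0],
  [0, 1, 2, 2, 2, 1, 2, 2, 1, 2, 2, 1, 2, 2, 1, 2, 2, 1, 2, 2, 1, 2, 2, 1, 0, 1, 2],
  [0, 0, 1, 2, 2, 2, 1, 2, 2, 1, 2, 2, 1, 2, 2, 1, 2, 2, 1, 2, 2, 1, 2, 2, 1, 0, 1, 2, 2],
  [1, 0, 0, 1, 0, 0, 1, 0, 0, 1, 0, 0, 1, 0, 0, 1, 0, 0, 1, 0, 0],
  [0, 0, 0, 1, 0, 1, 0, 1, 0, 0, 1, 2, 2, 1, 2, 1, 2, 1, 2, 2, 2],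
  [1, 2, 1, 2, 1, 2, 2, 1, 0, 1, 2, 2, 1, 0, 1, 2, 1, 0, 0, 1, 2, 1, 0, 0, 1, 0, 1, 0, 1],
  [0, 0, 1, 2, 1, 2, 2, 1, 2, 2, 2, 1, 0, 0, 0, 1, 0, 1, 2, 1, 2, 2, 1, 2, 1, 2, 1, 2, 1, 2, 2, 1, 2],
  [1, 2, 2, 1, 2, 2, 1, 0, 1, 2, 1, 2, 1, 0, 1, 2, 1, 0, 1, 0, 0, 1, 2, 2, 1, 0, 0],
  [1, 0, 0, 1, 2, 1, 0, 1, 0, 1, 0, 1, 2, 2, 2, 1, 2, 1, 2, 2, 1, 0, 0, 0, 1, 0, 0, 1, 0, 0, 0]]

theorem hr : wsr.map dig = ws.map (fun w => (dig w).reverse) := by decide +kernel

theorem hg : dig gwr = (dig gw).reverse := by decide +kernel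

theorem hc : conjB gw gwr (ws ++ wsr) StageBNode2.ws css = true := by decide +kernel

/-- The index of a subgroup containing the words is at most 4502191005. -/
theorem index_le (S : Subgroup Cfsg.Spor.Fi23) (h : ∀ w ∈ ws, Script.ev (OracleFi23.fgen 0) w ∈ S) :
    S.index ≠ 0 ∧ S.index ≤ 4502191005 :=
  index_le_of_conj h hr hg hc StageBNode2.index_le

end Cfsg.Agent.BM.StageBV7
end

-- part: BM/StageBInd
section
/-!
# Stage B of S1704: the index bounds of the eight stabilisers, in terms of the certificate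
-/

set_option autoImplicit false
set_option maxRecDepth 100000

namespace Cfsg.Agent.BM.StageBInd

open Cfsg.Agent.BM.CertB Cfsg.Agent.BM.StageBFinalOf
open Cfsg.Agent.BM.CoverChk (wd nth)
open Cfsg.Spor

theorem ind_of {ws vs : List ℕ} {n m : ℕ} (hs : ∀ w ∈ ws, w ∈ vs) (hn : n = m)
    (h : ∀ S : Subgroup Spor.Fi23, (∀ w ∈ ws, Script.ev (OracleFi23.fgen 0) w ∈ S) → S.index ≠ 0 ∧ S.index ≤ n) :
    ∀ S : Subgroup Spor.Fi23, (∀ u ∈ vs, wd u ∈ S) → S.index ≠ 0 ∧ S.index ≤ m := by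
  subst hn
  intro S hS
  exact h S fun w hw => hS w (hs w hw)

theorem s0 : ∀ w ∈ StageBNode0.ws, w ∈ sg 0 := by decide +kernel
theorem s1 : ∀ w ∈ StageBV1.ws, w ∈ sg 1 := by decide +kernel
theorem s2 : ∀ w ∈ StageBV2.ws, w ∈ sg 2 := by decide +kernel
theorem s3 : ∀ w ∈ StageBV3.ws, w ∈ sg 3 := by decide +kernel
theorem s4 : ∀ w ∈ StageBV4.ws, w ∈ sg 4 := by decide +kernel
theorem s5 : ∀ w ∈ StageBV5.ws, w ∈ sg 5 := by decide +kernel
theorem s6 : ∀ w ∈ StageBV6.ws, w ∈ sg 6 := by decide +kernel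
theorem s7 : ∀ w ∈ StageBV7.ws, w ∈ sg 7 := by decide +kernel

/-- **The index bounds of the stabilisers.** -/
theorem ind : ∀ i < 8, ∀ S : Subgroup Spor.Fi23, (∀ u ∈ sg i, wd u ∈ S) → S.index ≠ 0 ∧ S.index ≤ nB i := by
  intro i hi
  interval_cases i
  · exact ind_of s0 rfl StageBNode0.index_le
  · exact ind_of s1 rfl StageBV1.index_le
  · exact ind_of s2 rfl StageBV2.index_le
  · exact ind_of s3 rfl StageBV3.index_le
  · exact ind_of s4 rfl StageBV4.index_le
  · exact ind_of s5 rfl StageBV5.index_le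
  · exact ind_of s6 rfl StageBV6.index_le
  · exact ind_of s7 rfl StageBV7.index_le

end Cfsg.Agent.BM.StageBInd
end

-- part: BM/StageBFinal
section
/-!
# Stage B of S1704: `H = ⟨t2, …, t11⟩` has index at most `27143910000` in the presented Baby Monster

Facts of the certificate: `CertBInst` (helper976, helper967); coverings: `CovBCert` (helper62); index bounds:
`StageBNode0`, `StageBV1`, …, `StageBV7` (helper631, helper264).
-/

set_option autoImplicit false

namespace Cfsg.Agent.BM.StageBFinal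

open Cfsg.Agent.BM.FactsB Cfsg.Agent.BM.StageBFinalOf

/-- **Stage B.** -/
theorem main : (HB gB).index ≠ 0 ∧ (HB gB).index ≤ 27143910000 := main_of CovBCert.cov StageBInd.ind

end Cfsg.Agent.BM.StageBFinal
end
end

-- part: BM/CertAData_mg
section
prune_inst 0x4000000000000000000000000000010000000000000000000109000000400000000000000088000008000000000000c00000000000000000000000000008000000000000000000400000000000000000000000000000000000000000000000000
set_option linter.all false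
open scoped Cfsg.Agent.FastGrp

-- part: BM/CertAInst
section
/-!
Stage A of S1704: the facts of the bipartite enumeration hold in every group with elements `t1, …, t11` satisfying the
relators of the presented Baby Monster, for `X = ⟨t2, …, t10⟩`, `e0` = words in `t1, …, t10`, `e1` = words in `t3, …, t11`.
-/

set_option autoImplicit false
set_option maxRecDepth 100000

namespace Cfsg.Agent.BM.CertA

open Cfsg.Spor Cfsg.Agent.BM.Script Cfsg.Agent.BM.Psi Cfsg.Agent.BM.PairOracle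

variable {G : Type*} [Group G] {x : BabyMonster.Gen → G}

/-- `X = ⟨t2, …, t10⟩` -/
def X (x : BabyMonster.Gen → G) : Subgroup G :=
  Subgroup.closure {x .t2, x .t3, x .t4, x .t5, x .t6, x .t7, x .t8, x .t9, x .t10}

/-- Words in `t1, …, t10`. -/
noncomputable def e0 (h : Rel x) (u : ℕ) : G := psi h (Script.ev (OracleFi23.fgen 0) u)

/-- Words in `t3, …, t11`. -/
noncomputable def e1 (h : Rel x) (u : ℕ) : G := psiA h (Script.ev bgen u)

/-- node 0 -/
noncomputable def wn0 (_ : Rel x) : G := 1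

/-- node 8 -/
noncomputable def wn8 (h : Rel x) : G := wn0 h * e0 h 0

/-- node 1 -/
noncomputable def wn1 (h : Rel x) : G := wn8 h * e1 h 0xb

/-- node 2 -/
noncomputable def wn2 (h : Rel x) : G := wn8 h * e1 h 0xba95674563459ab

/-- node 9 -/
noncomputable def wn9 (h : Rel x) : G := wn1 h * e0 h 0x23459a

/-- node 10 -/
noncomputable def wn10 (h : Rel x) : G := wn2 h * e0 h 0x23459a65976543254965

/-- node 11 -/
noncomputable def wn11 (h : Rel x) : G := wn1 h * e0 h 0x234596543a9765487659a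

/-- node 3 -/
noncomputable def wn3 (h : Rel x) : G := wn10 h * e1 h 0xba95674563459ab59876543597654a95678

/-- node 4 -/
noncomputable def wn4 (h : Rel x) : G := wn11 h * e1 h 0xba956459a763459876543

/-- node 5 -/
noncomputable def wn5 (h : Rel x) : G := wn10 h * e1 h 0xba95674563459ab564598765439654a95678

/-- node 6 -/
noncomputable def wn6 (h : Rel x) : G := wn9 h * e1 h 0xba95436597654a5965876

/-- node 12 -/
noncomputable def wn12 (h : Rel x) : G := wn4 h * e0 h 0x23459657a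

/-- node 13 -/
noncomputable def wn13 (h : Rel x) : G := wn3 h * e0 h 0x23

/-- node 7 -/
noncomputable def wn7 (h : Rel x) : G := wn12 h * e1 h 0xb

/-- The nodes. -/
noncomputable def w (h : Rel x) : ℕ → G
  | 0 => wn0 h
  | 1 => wn1 h
  | 2 => wn2 h
  | 3 => wn3 h
  | 4 => wn4 h
  | 5 => wn5 h
  | 6 => wn6 h
  | 7 => wn7 h
  | 8 => wn8 h
  | 9 => wn9 h
  | 10 => wn10 h
  | 11 => wn11 h
  | 12 => wn12 h
  | 13 => wn13 h
  | _ => 1

theorem fact_0 : sys.fact 0 = ⟨2, 0, 0, 8, 0⟩ := rfl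
theorem fact_1 : sys.fact 1 = ⟨0, 0, 0x8, 0, 0⟩ := rfl
theorem fact_4 : sys.fact 4 = ⟨0, 0, 0x6, 0, 0⟩ := rfl
theorem fact_7 : sys.fact 7 = ⟨0, 0, 0x2, 0, 0⟩ := rfl
theorem fact_8 : sys.fact 8 = ⟨0, 0, 0x9, 0, 0⟩ := rfl
theorem fact_11 : sys.fact 11 = ⟨0, 0, 0x3, 0, 0⟩ := rfl
theorem fact_12 : sys.fact 12 = ⟨0, 0, 0x7, 0, 0⟩ := rfl
theorem fact_15 : sys.fact 15 = ⟨0, 0, 0x4, 0, 0⟩ := rfl
theorem fact_16 : sys.fact 16 = ⟨0, 0, 0xa, 0, 0⟩ := rfl
theorem fact_19 : sys.fact 19 = ⟨0, 0, 0x5, 0, 0⟩ := rfl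
theorem fact_26 : sys.fact 26 = ⟨2, 1, 0, 8, 0xb⟩ := rfl
theorem fact_44 : sys.fact 44 = ⟨2, 2, 0, 8, 0xba95674563459ab⟩ := rfl
theorem fact_68 : sys.fact 68 = ⟨2, 1, 0x23459a, 9, 0⟩ := rfl
theorem fact_100 : sys.fact 100 = ⟨2, 2, 0x23459a65976543254965, 10, 0⟩ := rfl
theorem fact_115 : sys.fact 115 = ⟨2, 3, 0, 10, 0xba95674563459ab59876543597654a95678⟩ := rfl
theorem fact_132 : sys.fact 132 = ⟨2, 1, 0x234596543a9765487659a, 11, 0⟩ := rfl
theorem fact_155 : sys.fact 155 = ⟨2, 4, 0, 11, 0xba956459a763459876543⟩ := rfl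
theorem fact_183 : sys.fact 183 = ⟨2, 4, 0x23459657a, 12, 0⟩ := rfl
theorem fact_201 : sys.fact 201 = ⟨2, 5, 0, 10, 0xba95674563459ab564598765439654a95678⟩ := rfl
theorem fact_209 : sys.fact 209 = ⟨2, 6, 0, 9, 0xba95436597654a5965876⟩ := rfl
theorem fact_248 : sys.fact 248 = ⟨2, 3, 0x23, 13, 0⟩ := rfl
theorem fact_269 : sys.fact 269 = ⟨2, 7, 0, 12, 0xb⟩ := rfl


theorem psi_fgen (h : Rel x) (d : ℕ) : psi h (OracleFi23.fgen 0 d) = x (m1 (OracleFi23.lt0 d)) :=
  psi_gen h _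

theorem psiA_bgen (h : Rel x) (d : ℕ) : psiA h (bgen d) = x (mA (ltB d)) := psiA_of h _

theorem letter0 (h : Rel x) (d : ℕ) (h0 : d ≠ 0) (h1 : d < 16) : e0 h d = x (m1 (OracleFi23.lt0 d)) := by
  unfold e0; rw [ev_letter _ d h0 h1, psi_fgen]

theorem letter1 (h : Rel x) (d : ℕ) (h0 : d ≠ 0) (h1 : d < 16) : e1 h d = x (mA (ltB d)) := by
  unfold e1; rw [ev_letter _ d h0 h1, psiA_bgen]

/-- The homomorphisms of the two sorts. -/
noncomputable def φ (h : Rel x) (s : ℕ) : Fi23 × Fi22 →* G :=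
  if s = 0 then (psi h).comp (MonoidHom.fst Fi23 Fi22) else (psiA h).comp (MonoidHom.snd Fi23 Fi22)

theorem φ_0 (h : Rel x) : φ h 0 = (psi h).comp (MonoidHom.fst Fi23 Fi22) := if_pos rfl

theorem φ_1 (h : Rel x) : φ h 1 = (psiA h).comp (MonoidHom.snd Fi23 Fi22) := if_neg (by norm_num)

theorem pgen_0 (d : ℕ) : pgen 0 d = (OracleFi23.fgen 0 d, 1) := if_pos rfl

theorem pgen_1 (d : ℕ) : pgen 1 d = (1, bgen d) := if_neg (by norm_num)

theorem φ_zero (h : Rel x) (u : ℕ) : φ h 0 (Script.ev (pgen 0) u) = e0 h u := by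
  unfold φ e0
  rw [if_pos rfl, MonoidHom.comp_apply]
  congr 1
  exact map_ev (MonoidHom.fst Fi23 Fi22) (pgen 0) u

theorem φ_one (h : Rel x) (u : ℕ) : φ h 1 (Script.ev (pgen 1) u) = e1 h u := by
  unfold φ e1
  rw [if_neg (by norm_num), MonoidHom.comp_apply]
  congr 1
  exact map_ev (MonoidHom.snd Fi23 Fi22) (pgen 1) u

theorem glue (d : ℕ) (hd : (nat_lit 2040 : ℕ).testBit d = true) :
    m1 (OracleFi23.lt0 d) = mA (ltB d) := by
  have h1 : d < 11 := by
    by_contra hc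
    have : (2040 : ℕ).testBit d = false :=
      Nat.testBit_lt_two_pow (lt_of_lt_of_le (by norm_num) (Nat.pow_le_pow_right (n := 2) (by norm_num) (not_lt.1 hc)))
    rw [show (nat_lit 2040 : ℕ) = 2040 from rfl, this] at hd
    exact absurd hd (by simp)
  interval_cases d <;> first | rfl | exact absurd hd (by decide)

theorem φ_glue (h : Rel x) (d : ℕ) (hd : (nat_lit 2040 : ℕ).testBit d = true) :
    φ h 0 (pgen 0 d) = φ h 1 (pgen 1 d) := by
  rw [φ_0, φ_1, pgen_0, pgen_1, MonoidHom.comp_apply, MonoidHom.comp_apply]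
  show psi h (OracleFi23.fgen 0 d) = psiA h (bgen d)
  rw [psi_fgen, psiA_bgen, glue d hd]

/-- The model. -/
noncomputable def model (h : Rel x) : Model sys (Fi23 × Fi22) G where
  gen := pgen
  img := pimg
  act_img := act_img
  img_inj := pimg_injective card_Fi23.le
  img_one := pimg_one
  φ := φ h
  H := X x
  w := w h
  g _ := 1
  g_silent _ _ := rfl
  transport := by
    intro τ d hd
    rw [mul_one, one_mul]
    have hs : ∀ n : ℕ, Nat.beq (Nat.land n 1) 1 = false ∨ Nat.beq (Nat.land n 1) 1 = true := fun n => by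
      cases Nat.beq (Nat.land n 1) 1 <;> simp
    cases h1 : Nat.ble τ 1 with
    | true =>
      have : τ = 0 ∨ τ = 1 := by have := Nat.le_of_ble_eq_true h1; omega
      rcases this with rfl | rfl <;> rfl
    | false =>
      have hm : sys.mask τ = nat_lit 2040 := by
        show (Bool.rec 0x7f8 _ (Nat.ble τ 1) : ℕ) = _
        rw [h1]
      rw [hm] at hd
      have ht : sys.tgt τ = (Bool.rec 1 0 (Nat.beq τ 3) : ℕ) := by
        show (Bool.rec (Bool.rec 1 0 (Nat.beq τ 3)) τ (Nat.ble τ 1) : ℕ) = _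
        rw [h1]
      have hsr : sys.src τ = (Bool.rec 0 1 (Nat.beq (Nat.land τ 1) 1) : ℕ) := rfl
      rw [ht, hsr]
      rcases hs τ with h2 | h2
      · rw [h2]
        cases h3 : Nat.beq τ 3 with
        | true => rfl
        | false => exact φ_glue h d hd
      · rw [h2]
        cases h3 : Nat.beq τ 3 with
        | true => exact (φ_glue h d hd).symm
        | false => rfl

theorem mem_X (x : BabyMonster.Gen → G) (t : BabyMonster.Gen)
    (ht : t ∈ ({.t2, .t3, .t4, .t5, .t6, .t7, .t8, .t9, .t10} : Set BabyMonster.Gen)) : x t ∈ X x := by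
  apply Subgroup.subset_closure
  simp only [Set.mem_insert_iff, Set.mem_singleton_iff] at ht ⊢
  rcases ht with rfl | rfl | rfl | rfl | rfl | rfl | rfl | rfl | rfl <;> simp

theorem holds_iff (h : Rel x) (τ i a j b : ℕ) : (model h).Holds ⟨τ, i, a, j, b⟩ ↔
    (model h).R (w h i * φ h (sys.src τ) (Script.ev (pgen (sys.src τ)) a) * 1)
      (w h j * φ h (sys.tgt τ) (Script.ev (pgen (sys.tgt τ)) b)) := Iff.rfl

theorem src0 : sys.src 0 = 0 := rfl
theorem src1 : sys.src 1 = 1 := rfl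
theorem src2 : sys.src 2 = 0 := rfl
theorem src3 : sys.src 3 = 1 := rfl
theorem tgt0 : sys.tgt 0 = 0 := rfl
theorem tgt1 : sys.tgt 1 = 1 := rfl
theorem tgt2 : sys.tgt 2 = 1 := rfl
theorem tgt3 : sys.tgt 3 = 0 := rfl

/-- The given facts of type 2. -/
theorem given2 (h : Rel x) {n i j a b : ℕ} (hf : sys.fact n = ⟨2, i, a, j, b⟩)
    (hw : w h i * e0 h a = w h j * e1 h b) : (model h).Holds (sys.fact n) := by
  rw [hf, holds_iff, src2, tgt2, φ_zero, φ_one, mul_one, hw]
  exact Model.R_refl _ _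

/-- The given facts of type 0. -/
theorem given0 (h : Rel x) {n a : ℕ} (hf : sys.fact n = ⟨0, 0, a, 0, 0⟩)
    (hw : e0 h a ∈ X x) : (model h).Holds (sys.fact n) := by
  rw [hf, holds_iff, src0, tgt0, φ_zero, φ_zero, mul_one]
  unfold Model.R
  have : e0 h 0 = 1 := by unfold e0; rw [ev_zero, map_one]
  rw [this]
  show wn0 h * e0 h a * (wn0 h * 1)⁻¹ ∈ X x
  unfold wn0
  rw [one_mul, one_mul, inv_one, mul_one]
  exact hw

theorem e0_zero (h : Rel x) : e0 h 0 = 1 := by unfold e0; rw [ev_zero, map_one]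
theorem e1_zero (h : Rel x) : e1 h 0 = 1 := by unfold e1; rw [ev_zero, map_one]

/-- The numbers of the given facts. -/
noncomputable def gv : List ℕ := [0, 1, 4, 7, 8, 11, 12, 15, 16, 19, 26, 44, 68, 100, 115, 132, 155, 183, 201, 209, 248, 269]

theorem given (h : Rel x) : ∀ n ∈ gv, (model h).Holds (sys.fact n) := by
  intro n hn
  simp only [gv, List.mem_cons, List.not_mem_nil, or_false] at hn
  rcases hn with rfl | rfl | rfl | rfl | rfl | rfl | rfl | rfl | rfl | rfl | rfl | rfl | rfl | rfl | rfl | rfl | rfl | rfl | rfl | rfl | rfl | rfl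
  · refine given2 h fact_0 ?_
    rw [e1_zero, mul_one]; rfl
  · refine given0 h fact_1 ?_
    rw [letter0 h _ (by norm_num) (by norm_num)]
    exact mem_X x _ (by show BabyMonster.Gen.t8 ∈ _; simp)
  · refine given0 h fact_4 ?_
    rw [letter0 h _ (by norm_num) (by norm_num)]
    exact mem_X x _ (by show BabyMonster.Gen.t6 ∈ _; simp)
  · refine given0 h fact_7 ?_
    rw [letter0 h _ (by norm_num) (by norm_num)]
    exact mem_X x _ (by show BabyMonster.Gen.t2 ∈ _; simp)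
  · refine given0 h fact_8 ?_
    rw [letter0 h _ (by norm_num) (by norm_num)]
    exact mem_X x _ (by show BabyMonster.Gen.t9 ∈ _; simp)
  · refine given0 h fact_11 ?_
    rw [letter0 h _ (by norm_num) (by norm_num)]
    exact mem_X x _ (by show BabyMonster.Gen.t3 ∈ _; simp)
  · refine given0 h fact_12 ?_
    rw [letter0 h _ (by norm_num) (by norm_num)]
    exact mem_X x _ (by show BabyMonster.Gen.t7 ∈ _; simp)
  · refine given0 h fact_15 ?_
    rw [letter0 h _ (by norm_num) (by norm_num)]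
    exact mem_X x _ (by show BabyMonster.Gen.t4 ∈ _; simp)
  · refine given0 h fact_16 ?_
    rw [letter0 h _ (by norm_num) (by norm_num)]
    exact mem_X x _ (by show BabyMonster.Gen.t10 ∈ _; simp)
  · refine given0 h fact_19 ?_
    rw [letter0 h _ (by norm_num) (by norm_num)]
    exact mem_X x _ (by show BabyMonster.Gen.t5 ∈ _; simp)
  · refine given2 h fact_26 ?_
    rw [e0_zero, mul_one]; rfl
  · refine given2 h fact_44 ?_
    rw [e0_zero, mul_one]; rfl
  · refine given2 h fact_68 ?_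
    rw [e1_zero, mul_one]; rfl
  · refine given2 h fact_100 ?_
    rw [e1_zero, mul_one]; rfl
  · refine given2 h fact_115 ?_
    rw [e0_zero, mul_one]; rfl
  · refine given2 h fact_132 ?_
    rw [e1_zero, mul_one]; rfl
  · refine given2 h fact_155 ?_
    rw [e0_zero, mul_one]; rfl
  · refine given2 h fact_183 ?_
    rw [e1_zero, mul_one]; rfl
  · refine given2 h fact_201 ?_
    rw [e0_zero, mul_one]; rfl
  · refine given2 h fact_209 ?_
    rw [e0_zero, mul_one]; rfl
  · refine given2 h fact_248 ?_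
    rw [e1_zero, mul_one]; rfl
  · refine given2 h fact_269 ?_
    rw [e0_zero, mul_one]; rfl

theorem rules (h : Rel x) (r : ℕ) : (model h).syls (sys.rsyl r) = (model h).g (sys.rty r) := by
  have hc : x .t2 * x .t11 = x .t11 * x .t2 := h.comm (by decide)
  have h2 : x .t2 * x .t2 = 1 := h.sq .t2
  have h11 : x .t11 * x .t11 = 1 := h.sq .t11
  have k0 : (model h).syl (.K 0 0x2) = x .t2 := by
    show φ h 0 (Script.ev (pgen 0) 0x2) = _
    rw [φ_zero, letter0 h _ (by norm_num) (by norm_num)]; rfl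
  have k1 : (model h).syl (.K 1 0xb) = x .t11 := by
    show φ h 1 (Script.ev (pgen 1) 0xb) = _
    rw [φ_one, letter1 h _ (by norm_num) (by norm_num)]; rfl
  have hA : (model h).syls [.K 1 0xb, .K 0 0x2, .K 1 0xb, .K 0 0x2] = 1 := by
    simp only [Model.syls_cons, Model.syls_nil, k0, k1, mul_one]
    rw [← mul_assoc (x .t2) (x .t11), hc, mul_assoc (x .t11) (x .t2), h2, mul_one, h11]
  have hB : (model h).syls [.K 0 0x2, .K 1 0xb, .K 0 0x2, .K 1 0xb] = 1 := by
    simp only [Model.syls_cons, Model.syls_nil, k0, k1, mul_one]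
    rw [← mul_assoc (x .t11) (x .t2), ← hc, mul_assoc (x .t2) (x .t11), h11, mul_one, h2]
  show (model h).syls (Bool.rec (Bool.rec [.K 1 0xb, .K 0 0x2, .K 1 0xb, .K 0 0x2]
    [.K 0 0x2, .K 1 0xb, .K 0 0x2, .K 1 0xb] (Nat.ble (Nat.land (Nat.sub r 1) 3) 1)) [] (Nat.ble r 3)) = 1
  cases Nat.ble r 3 with
  | true => exact Model.syls_nil _
  | false =>
    cases Nat.ble (Nat.land (Nat.sub r 1) 3) 1 with
    | true => exact hB
    | false => exact hA

/-- All lists of items. -/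
noncomputable def allItems : List (List Item) := [items0, items1, items2, items3, items4, items5, items6, items7, items8, items9, items10, items11, items12, items13, items14, items15]

theorem chkAll : ∀ l ∈ allItems, chkItems sys l = true := by
  intro l hl
  simp only [allItems, List.mem_cons, List.not_mem_nil, or_false] at hl
  rcases hl with rfl | rfl | rfl | rfl | rfl | rfl | rfl | rfl | rfl | rfl | rfl | rfl | rfl | rfl | rfl | rfl
  · exact chk0
  · exact chk1
  · exact chk2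
  · exact chk3
  · exact chk4
  · exact chk5
  · exact chk6
  · exact chk7
  · exact chk8
  · exact chk9
  · exact chk10
  · exact chk11
  · exact chk12
  · exact chk13
  · exact chk14
  · exact chk15

theorem comp : complete gv allItems 298 = true := by decide +kernel

/-- All facts of stage A. -/
theorem holds (h : Rel x) : ∀ n < 298, (model h).Holds (sys.fact n) :=
  (model h).all_hold_of_items 298 gv allItems chkAll comp (given h) (rules h)

/-- An edge. -/
theorem edge2 (h : Rel x) {n i a j b : ℕ} (hn : n < 298) (hf : sys.fact n = ⟨2, i, a, j, b⟩) :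
    DCE.SameC (X x) (w h i * e0 h a) (w h j * e1 h b) := by
  have := holds h n hn
  rw [hf, holds_iff, src2, tgt2, φ_zero, φ_one, mul_one] at this
  exact this

/-- An edge, written from the other side. -/
theorem edge3 (h : Rel x) {n i a j b : ℕ} (hn : n < 298) (hf : sys.fact n = ⟨3, j, b, i, a⟩) :
    DCE.SameC (X x) (w h i * e0 h a) (w h j * e1 h b) := by
  have := holds h n hn
  rw [hf, holds_iff, src3, tgt3, φ_zero, φ_one, mul_one] at this
  exact DCE.SameC.symm this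

/-- A stabiliser element of a node of sort 0. -/
theorem stab0 (h : Rel x) {n i a : ℕ} (hn : n < 298) (hf : sys.fact n = ⟨0, i, a, i, 0⟩) :
    w h i * e0 h a * (w h i)⁻¹ ∈ X x := by
  have := holds h n hn
  rw [hf, holds_iff, src0, tgt0, φ_zero, φ_zero, mul_one, e0_zero, mul_one] at this
  exact this

/-- A stabiliser element of a node of sort 1. -/
theorem stab1 (h : Rel x) {n i a : ℕ} (hn : n < 298) (hf : sys.fact n = ⟨1, i, a, i, 0⟩) :
    w h i * e1 h a * (w h i)⁻¹ ∈ X x := by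
  have := holds h n hn
  rw [hf, holds_iff, src1, tgt1, φ_one, φ_one, mul_one, e1_zero, mul_one] at this
  exact this

end Cfsg.Agent.BM.CertA
end

-- part: BM/CertAData
section
/-!
The facts of stage A in terms of the shared data `StageAData`: edges and stabiliser generators.
-/

set_option autoImplicit false
set_option maxRecDepth 100000

namespace Cfsg.Agent.BM.CertA

open Cfsg.Spor Cfsg.Agent.BM.Script Cfsg.Agent.BM.Psi Cfsg.Agent.BM.PairOracle Cfsg.Agent.BM.StageAData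

/-- Equality test of facts. -/
noncomputable def factB (f g : Fact) : Bool :=
  and (Nat.beq f.ty g.ty) <| and (Nat.beq f.i g.i) <| and (Nat.beq f.a g.a) <| and (Nat.beq f.j g.j) (Nat.beq f.b g.b)

theorem factB_spec {f g : Fact} (h : factB f g = true) : f = g := by
  unfold factB at h
  simp only [Bool.and_eq_true] at h
  obtain ⟨h1, h2, h3, h4, h5⟩ := h
  cases f; cases g
  simp only [Fact.mk.injEq]
  exact ⟨Nat.eq_of_beq_eq_true h1, Nat.eq_of_beq_eq_true h2, Nat.eq_of_beq_eq_true h3,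
    Nat.eq_of_beq_eq_true h4, Nat.eq_of_beq_eq_true h5⟩

theorem chk_edges : ∀ e : Fin 32, (Nat.ble (factE e + 1) 298 &&
    (factB (sys.fact (factE e)) ⟨2, (srcE e).val, aE e, 8 + (tgtE e).val, bE e⟩ ||
    factB (sys.fact (factE e)) ⟨3, 8 + (tgtE e).val, bE e, (srcE e).val, aE e⟩)) = true := by decide +kernel

theorem chk_stabA : ∀ i : Fin 8, ((fsA i).zip (wsA i)).all (fun p => Nat.ble (p.1 + 1) 298 &&
    factB (sys.fact p.1) ⟨0, i.val, p.2, i.val, 0⟩) = true := by decide +kernel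

theorem chk_stabB : ∀ j : Fin 6, ((fsB j).zip (wsB j)).all (fun p => Nat.ble (p.1 + 1) 298 &&
    factB (sys.fact p.1) ⟨1, 8 + j.val, p.2, 8 + j.val, 0⟩) = true := by decide +kernel

theorem len_A : ∀ i : Fin 8, (fsA i).length = (wsA i).length := by decide
theorem len_B : ∀ j : Fin 6, (fsB j).length = (wsB j).length := by decide

theorem mem_zip_right {l₁ l₂ : List ℕ} (h : l₁.length = l₂.length) {u : ℕ} (hu : u ∈ l₂) :
    ∃ n, (n, u) ∈ l₁.zip l₂ := by
  induction l₁ generalizing l₂ with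
  | nil =>
    cases l₂ with
    | nil => exact absurd hu (by simp)
    | cons b l₂ => exact absurd h (by simp)
  | cons a l₁ ih =>
    cases l₂ with
    | nil => exact absurd h (by simp)
    | cons b l₂ =>
      rcases List.mem_cons.1 hu with rfl | hu
      · exact ⟨a, List.mem_cons_self⟩
      · obtain ⟨n, hn⟩ := ih (by simpa using h) hu
        exact ⟨n, List.mem_cons_of_mem _ hn⟩

variable {G : Type*} [Group G] {x : BabyMonster.Gen → G}

/-- The edges. -/
theorem same (h : Rel x) (e : Fin 32) :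
    DCE.SameC (X x) (w h (srcE e).val * e0 h (aE e)) (w h (8 + (tgtE e).val) * e1 h (bE e)) := by
  have h1 := chk_edges e
  rw [Bool.and_eq_true, Bool.or_eq_true] at h1
  rcases h1.2 with h2 | h2
  · exact edge2 h (Nat.le_of_ble_eq_true h1.1) (factB_spec h2)
  · exact edge3 h (Nat.le_of_ble_eq_true h1.1) (factB_spec h2)

/-- The stabilisers of the nodes of sort 0. -/
theorem stabA (h : Rel x) (i : Fin 8) : ∀ u ∈ wsA i, w h i.val * e0 h u * (w h i.val)⁻¹ ∈ X x := by
  intro u hu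
  obtain ⟨n, hn⟩ := mem_zip_right (len_A i) hu
  have h1 := List.all_eq_true.1 (chk_stabA i) _ hn
  rw [Bool.and_eq_true] at h1
  exact stab0 h (Nat.le_of_ble_eq_true h1.1) (factB_spec h1.2)

/-- The stabilisers of the nodes of sort 1. -/
theorem stabB (h : Rel x) (j : Fin 6) :
    ∀ u ∈ wsB j, w h (8 + j.val) * e1 h u * (w h (8 + j.val))⁻¹ ∈ X x := by
  intro u hu
  obtain ⟨n, hn⟩ := mem_zip_right (len_B j) hu
  have h1 := List.all_eq_true.1 (chk_stabB j) _ hn
  rw [Bool.and_eq_true] at h1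
  exact stab1 h (Nat.le_of_ble_eq_true h1.1) (factB_spec h1.2)

end Cfsg.Agent.BM.CertA
end

-- part: BM/StageAB1
section
/-!
Stage A of S1704, B-side nodes (helper264): for every node `j` the generator words `T j` of its stabiliser, the edge
words `M j`, the covering `Fi₂₂ = ⋃ ⟨T j⟩ m O` and the index bound.  Letters: `a b c d e f g h i` are
`t8 t7 t6 t5 t9 t10 t11 t4 t3`.  Generated by a program.
-/

set_option autoImplicit false
set_option maxRecDepth 100000
set_option Elab.async false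

namespace Cfsg.Agent.BM.StageAB

open Cfsg.Spor Cfsg.Spor.Fi22 Cfsg.Agent.BM.NodeLib Cfsg.Agent.BM.Fi22O

/-! ### node B0: order 4585351680, index 14080 -/

def T0 : List (List Gen) :=
  [[.a],
   [.c],
   [.e],
   [.b],
   [.f],
   [.h],
   [.d],
   [.i]]

def M0 : List (List Gen) :=
  [[],
   [.g],
   [.g, .f, .e, .d, .h, .i, .c, .d, .h, .b, .c, .d, .e, .f, .g]]

def C0 : List Rep.Lev :=
  [⟨13928, 10920, 6, [[0], [2], [4], [6], [12], [10], [8, 14]]⟩,
   ⟨13966, 4374, 5, [[6, 12, 10, 14, 10, 12, 2, 4, 12], [0, 2, 4, 6, 0, 2, 6, 8, 4, 10], [2, 8, 10, 12, 2,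
    14, 10], [4, 6, 8, 4, 10]]⟩,
   ⟨5, 96, 2, [[0, 2, 6, 0, 2], [6, 12, 10, 14, 10, 12, 2, 4, 12, 6, 12, 10, 14, 10, 12, 2, 4, 12, 2, 8, 10,
    12, 2, 14, 10, 4, 6, 8, 4, 15, 3, 13, 11, 9, 3, 11, 5, 9, 7, 3, 1, 7, 5, 3, 1], [6, 12, 10, 14, 10, 12,
    2, 4, 12, 4, 6, 8, 4, 10, 2, 8, 10, 12, 2, 14, 10, 6, 12, 10, 14, 10, 12, 2, 4, 12, 6, 12, 10, 14, 10,
    12, 2, 4, 12, 11, 15, 3, 13, 11, 9, 3, 13, 5, 3, 13, 11, 15, 11, 13, 7, 11, 5, 9, 7, 3, 1, 7, 5, 3, 1],
    [2, 8, 10, 12, 2, 14, 10, 6, 12, 10, 14, 10, 12, 2, 4, 12, 6, 12, 10, 14, 10, 12, 2, 4, 12, 2, 8, 10, 12,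
    2, 14, 10, 6, 12, 10, 14, 10, 12, 2, 4, 12, 11, 5, 9, 7, 5, 13, 5, 3, 13, 11, 15, 11, 13, 7, 11, 15, 3,
    13, 11, 9, 3, 13, 5, 3, 13, 11, 15, 11, 13, 7, 13, 5, 3, 13, 11, 15, 11, 13, 7]]⟩]

theorem chain0 : R.chainB T0 C0 [] = true := by (rewrite [show @Cfsg.Agent.BM.NodeLib.Rep.chainB = delta% @Cfsg.Agent.BM.NodeLib.Rep.chainB from by delta Cfsg.Agent.BM.NodeLib.Rep.chainB; rfl, show @Cfsg.Agent.BM.NodeLib.Rep.levB = delta% @Cfsg.Agent.BM.NodeLib.Rep.levB from by delta Cfsg.Agent.BM.NodeLib.Rep.levB; rfl, show @Cfsg.Agent.Lib.PermNetOrbit.fixAllB = delta% @Cfsg.Agent.Lib.PermNetOrbit.fixAllB from by delta Cfsg.Agent.Lib.PermNetOrbit.fixAllB; rfl, show @Cfsg.Agent.Lib.PermNetOrbit.fixB = delta% @Cfsg.Agent.Lib.PermNetOrbit.fixB from by delta Cfsg.Agent.Lib.PermNetOrbit.fixB; rfl, Cfsg.Agent.Lib.PermNetFast.ptWord_fast, Cfsg.Agent.Lib.PermNetFast.pcO_fast]; decide +kernel)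

theorem covB0 : R.covB T0 M0 0 8 U = true := by decide +kernel

/-- the index of the stabiliser of node B0 -/
theorem index0 : (R.clo T0).index ≠ 0 ∧ (R.clo T0).index ≤ 14080 :=
  index_of_chain chain0 (m := 4585351680) (by decide) (by norm_num) (by norm_num)

/-- the covering of node B0 -/
theorem cov0 (k : Spor.Fi22) :
    ∃ m ∈ M0, ∃ s ∈ R.clo T0, ∃ x ∈ O, k = s * R.wd m * x :=
  cov_of_check covB0 k

/-! ### node B1: order 3628800, index 17791488 -/

def T1 : List (List Gen) :=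
  [[.a],
   [.e],
   [.i],
   [.f],
   [.h],
   [.d],
   [.b],
   [.b, .c, .d, .e, .f, .h, .d, .c, .e, .d, .h, .i, .h, .d, .c, .e, .d, .h, .f, .e, .d, .c, .b],
   [.g]]

def M1 : List (List Gen) :=
  [[],
   [.a, .b, .c, .b, .d, .e, .f, .h, .d, .c, .e, .d, .h, .i, .h, .d, .c, .e, .d, .h, .f, .e, .d, .c, .b, .g],
   [.b, .c, .b, .a, .d, .c, .e, .d, .f, .h, .d, .c, .b, .a, .e, .d, .h, .c, .b, .i, .h, .d, .e, .f, .g],
   [.a, .b, .c, .b, .a, .d, .c, .b, .e, .d, .f, .h, .d, .c, .e, .d, .h, .i, .h, .d, .c, .b, .a, .e, .d, .h,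
    .c, .d, .b, .f, .e, .d, .c, .b, .g]]

def C1 : List Rep.Lev :=
  [⟨8594, 5670, 3, [[0], [2], [12], [6], [8], [10], [14], [16]]⟩,
   ⟨6070, 640, 3, [[0, 2, 4, 16, 6, 2, 14, 12, 16], [4, 6, 2, 10, 2, 8, 16, 6, 2, 14], [2, 10, 2], [4, 8, 10,
    8, 4], [0, 12, 0]]⟩]

theorem chain1 : R.chainB T1 C1 [] = true := by (rewrite [show @Cfsg.Agent.BM.NodeLib.Rep.chainB = delta% @Cfsg.Agent.BM.NodeLib.Rep.chainB from by delta Cfsg.Agent.BM.NodeLib.Rep.chainB; rfl, show @Cfsg.Agent.BM.NodeLib.Rep.levB = delta% @Cfsg.Agent.BM.NodeLib.Rep.levB from by delta Cfsg.Agent.BM.NodeLib.Rep.levB; rfl, show @Cfsg.Agent.Lib.PermNetOrbit.fixAllB = delta% @Cfsg.Agent.Lib.PermNetOrbit.fixAllB from by delta Cfsg.Agent.Lib.PermNetOrbit.fixAllB; rfl, show @Cfsg.Agent.Lib.PermNetOrbit.fixB = delta% @Cfsg.Agent.Lib.PermNetOrbit.fixB from by delta Cfsg.Agent.Lib.PermNetOrbit.fixB; rfl, Cfsg.Agent.Lib.PermNetFast.ptWord_fast, Cfsg.Agent.Lib.PermNetFast.pcO_fast];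 decide +kernel)

theorem covB1 : R.covB T1 M1 0 6 U = true := by decide +kernel

/-- the index of the stabiliser of node B1 -/
theorem index1 : (R.clo T1).index ≠ 0 ∧ (R.clo T1).index ≤ 17791488 :=
  index_of_chain chain1 (m := 3628800) (by decide) (by norm_num) (by norm_num)

/-- the covering of node B1 -/
theorem cov1 (k : Spor.Fi22) :
    ∃ m ∈ M1, ∃ s ∈ R.clo T1, ∃ x ∈ O, k = s * R.wd m * x :=
  cov_of_check covB1 k

/-! ### node B5: order 95040, index 679311360 -/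

def T5 : List (List Gen) :=
  [[.a, .e, .f, .d, .e, .h, .d, .c, .b, .a, .e, .d, .h, .c, .d, .b, .f, .i, .h, .d, .c, .b, .a],
   [.d, .c, .h, .d, .c, .b, .e, .d, .h, .f, .e, .d, .c, .b, .i, .h, .d, .c, .b, .e, .d, .h, .c, .d, .f, .e,
    .d, .h, .c, .b, .a, .g, .f, .e, .d, .h, .i, .c, .d, .h, .b, .e, .d, .c, .f, .e, .d, .h]]

def M5 : List (List Gen) :=
  [[],
   [.g],
   [.f, .g],
   [.b, .d, .c, .h, .d, .e, .f, .g],
   [.f, .a, .d, .c, .b, .e, .d, .c, .h, .d, .e, .f, .g],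
   [.c, .d, .g, .f, .e, .d, .h, .i, .c, .d, .h, .b, .c, .d, .e, .f, .g],
   [.b, .a, .c, .d, .c, .e, .d, .f, .e, .h, .d, .c, .b, .e, .d, .h, .f, .e, .d, .c, .b, .a, .i, .h, .d, .c,
    .b, .e, .d, .h, .i, .c, .d, .g, .f, .e, .d, .h, .i, .c, .d, .h, .b, .c, .d, .a, .b, .e, .d, .h, .i, .c,
    .d, .h, .f, .e, .d, .h, .i, .g]]

def C5 : List Rep.Lev :=
  [⟨2, 5940, 8, [[0], [2], [0]]⟩,
   ⟨3, 16, 1, [[0, 2, 2, 0, 2, 1, 1], [3, 0, 0, 3, 1, 3, 1, 1, 2, 0, 2], [0, 0, 0, 2, 0, 2, 0, 0, 0, 2, 2,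
    0], [0, 0, 3, 1, 3, 1, 1, 3, 1, 1, 2, 0, 3, 1, 3]]⟩]

theorem chain5 : R.chainB T5 C5 [] = true := by (rewrite [show @Cfsg.Agent.BM.NodeLib.Rep.chainB = delta% @Cfsg.Agent.BM.NodeLib.Rep.chainB from by delta Cfsg.Agent.BM.NodeLib.Rep.chainB; rfl, show @Cfsg.Agent.BM.NodeLib.Rep.levB = delta% @Cfsg.Agent.BM.NodeLib.Rep.levB from by delta Cfsg.Agent.BM.NodeLib.Rep.levB; rfl, show @Cfsg.Agent.Lib.PermNetOrbit.sat = delta% @Cfsg.Agent.Lib.PermNetOrbit.sat from by delta Cfsg.Agent.Lib.PermNetOrbit.sat; rfl, show @Cfsg.Agent.Lib.PermNetOrbit.satRound = delta% @Cfsg.Agent.Lib.PermNetOrbit.satRound from by delta Cfsg.Agent.Lib.PermNetOrbit.satRound; rfl, show @Cfsg.Agent.Lib.PermNetOrbit.fixAllB = delta% @Cfsg.Agent.Lib.PermNetOrbit.fixAllB from by delta Cfsg.Agent.Lib.PermNetOrbit.fixAllB; rfl, show @Cfsg.Agent.Lib.PermNetOrbit.fixB = delta% @Cfsg.Agent.Lib.PermNetOrbit.fixB from by delta Cfsg.Agent.Lib.PermNetOrbit.fixB; rfl, Cfsg.Agent.Lib.PermNetFast.ptWord_fast,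 Cfsg.Agent.Lib.PermNetFast.pcO_fast, Cfsg.Agent.Lib.PermNetFast.appWord_fast]; decide +kernel)

theorem covB5 : R.covB T5 M5 0 12 U = true := by decide +kernel

/-- the index of the stabiliser of node B5 -/
theorem index5 : (R.clo T5).index ≠ 0 ∧ (R.clo T5).index ≤ 679311360 :=
  index_of_chain chain5 (m := 95040) (by decide) (by norm_num) (by norm_num)

/-- the covering of node B5 -/
theorem cov5 (k : Spor.Fi22) :
    ∃ m ∈ M5, ∃ s ∈ R.clo T5, ∃ x ∈ O, k = s * R.wd m * x :=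
  cov_of_check covB5 k

end Cfsg.Agent.BM.StageAB
end

-- part: BM/StageAB3
section
/-!
Stage A of S1704, B-side nodes (helper264): for every node `j` the generator words `T j` of its stabiliser, the edge
words `M j`, the covering `Fi₂₂ = ⋃ ⟨T j⟩ m O` and the index bound.  Letters: `a b c d e f g h i` are
`t8 t7 t6 t5 t9 t10 t11 t4 t3`.  Generated by a program.
-/

set_option autoImplicit false
set_option maxRecDepth 100000
set_option Elab.async false

namespace Cfsg.Agent.BM.StageAB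

open Cfsg.Spor Cfsg.Spor.Fi22 Cfsg.Agent.BM.NodeLib Cfsg.Agent.BM.Fi22O

/-! ### node B4: order 887040, index 72783360 -/

def T4 : List (List Gen) :=
  [[.c, .b, .e, .f, .d, .c, .b, .a, .e, .d, .c, .b],
   [.f, .c, .b, .a, .e, .f, .d, .h, .d, .c, .b, .a, .e, .d, .c, .b, .f, .e, .d, .c, .i, .h, .d, .c, .b, .a,
    .e, .d, .h, .c, .f, .g, .f, .e, .d, .h, .i, .c, .d, .b, .c, .a, .b, .e, .d, .h, .c, .d, .e, .f, .e, .d,
    .h, .c]]

def M4 : List (List Gen) :=
  [[],
   [.c, .h, .d, .e, .f, .g],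
   [.h, .d, .c, .i, .h, .d, .e, .f, .g],
   [.f, .a, .c, .b, .a, .e, .f, .d, .h, .d, .c, .b, .a, .e, .d, .h, .c, .d, .b, .c, .f, .e, .d, .h, .c, .d,
    .b, .c, .e, .i, .h, .d, .c, .b, .a, .e, .d, .h, .i, .c, .d, .b, .c, .e, .d, .g, .f, .e, .d, .h, .i, .c,
    .d, .h, .b, .c, .d, .a, .b, .e, .d, .h, .c, .d, .b, .f, .e, .d, .h, .i, .c, .d, .h, .b, .a, .g],
   [.g]]

def C4 : List Rep.Lev :=
  [⟨9974, 7392, 12, [[0], [2]]⟩,
   ⟨1, 120, 3, [[2, 0, 3, 0, 2, 2], [1, 3, 3, 1, 3, 0, 2, 2, 2, 1], [0, 3, 0, 3, 0, 2, 0, 2, 2, 1, 2, 0, 3]]⟩]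

theorem chain4 : R.chainB T4 C4 [] = true := by (rewrite [show @Cfsg.Agent.BM.NodeLib.Rep.chainB = delta% @Cfsg.Agent.BM.NodeLib.Rep.chainB from by delta Cfsg.Agent.BM.NodeLib.Rep.chainB; rfl, show @Cfsg.Agent.BM.NodeLib.Rep.levB = delta% @Cfsg.Agent.BM.NodeLib.Rep.levB from by delta Cfsg.Agent.BM.NodeLib.Rep.levB; rfl, show @Cfsg.Agent.Lib.PermNetOrbit.fixAllB = delta% @Cfsg.Agent.Lib.PermNetOrbit.fixAllB from by delta Cfsg.Agent.Lib.PermNetOrbit.fixAllB; rfl, show @Cfsg.Agent.Lib.PermNetOrbit.fixB = delta% @Cfsg.Agent.Lib.PermNetOrbit.fixB from by delta Cfsg.Agent.Lib.PermNetOrbit.fixB; rfl, Cfsg.Agent.Lib.PermNetFast.ptWord_fast, Cfsg.Agent.Lib.PermNetFast.pcO_fast]; decide +kernel)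

theorem covB4 : R.covB T4 M4 0 13 U = true := by decide +kernel

/-- the index of the stabiliser of node B4 -/
theorem index4 : (R.clo T4).index ≠ 0 ∧ (R.clo T4).index ≤ 72783360 :=
  index_of_chain chain4 (m := 887040) (by decide) (by norm_num) (by norm_num)

/-- the covering of node B4 -/
theorem cov4 (k : Spor.Fi22) :
    ∃ m ∈ M4, ∃ s ∈ R.clo T4, ∃ x ∈ O, k = s * R.wd m * x :=
  cov_of_check covB4 k

end Cfsg.Agent.BM.StageAB
end

-- part: BM/StageAB
section

end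

-- part: BM/CovB
section
/-!
Stage A of S1704, B-side (helper264): coverings and index bounds in terms of the shared data module
`Cfsg.Agent.BM.StageAData` (words are hexadecimal numbers, letters `3, …, b` = `t3, …, t11` evaluated in `Spor.Fi22`
by `PairOracle.bgen`).
-/

set_option autoImplicit false
set_option maxRecDepth 100000

namespace Cfsg.Agent.BM.CovB

open Cfsg.Spor Cfsg.Spor.Fi22 Cfsg.Agent.BM.NodeLib Cfsg.Agent.BM.Fi22O Cfsg.Agent.BM.StageAData
open Cfsg.Agent.BM.PairOracle (bgen ltB)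

/-- The value of a word. -/
noncomputable def EB (w : ℕ) : Spor.Fi22 := Script.ev bgen w

/-- The letters of a word. -/
noncomputable def lstF (n : ℕ) : ℕ → List Gen :=
  Nat.rec (motive := fun _ => ℕ → List Gen) (fun _ => [])
    (fun _ ih w => Bool.rec (ltB (Nat.land w 15) :: ih (Nat.shiftRight w 4)) [] (Nat.beq w 0)) n

theorem lstF_succ (n w : ℕ) : lstF (n + 1) w = if w = 0 then [] else ltB (w % 16) :: lstF n (w / 16) := by
  show (Bool.rec (ltB (Nat.land w 15) :: lstF n (Nat.shiftRight w 4)) [] (Nat.beq w 0) : List Gen) = _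
  by_cases h : w = 0
  · subst h; rw [if_pos rfl]; rfl
  · rw [if_neg h, show Nat.beq w 0 = false by
      rw [← Bool.not_eq_true]; exact fun h' => h (Nat.eq_of_beq_eq_true h')]
    show ltB (Nat.land w 15) :: lstF n (Nat.shiftRight w 4) = _
    have h1 : Nat.land w 15 = w % 16 := by
      show w &&& 15 = _
      exact Nat.and_two_pow_sub_one_eq_mod w 4
    have h2 : Nat.shiftRight w 4 = w / 16 := by
      show w >>> 4 = _
      rw [Nat.shiftRight_eq_div_pow]
    rw [h1, h2]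

/-- The letters of a word. -/
noncomputable def lst (w : ℕ) : List Gen := lstF (nat_lit 4096) w

theorem evF_eq (n w : ℕ) : Script.evF bgen n w = R.wd (lstF n w) := by
  induction n generalizing w with
  | zero => rw [Script.evF_zero]; rfl
  | succ n ih =>
    rw [Script.evF_succ, lstF_succ]
    split_ifs with h
    · rfl
    · rw [ih, Rep.wd_cons]; rfl

theorem EB_eq (w : ℕ) : EB w = R.wd (lst w) := evF_eq _ w

/-- The subgroup of `Fi22` generated by the letters of a mask. -/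
def gpB (m : ℕ) : Subgroup Spor.Fi22 := Subgroup.closure {x | ∃ d, m.testBit d = true ∧ bgen d = x}

/-- The mask of the letters `3, …, a`. -/
noncomputable def mO : ℕ := nat_lit 2040

theorem ltB_3 : ltB 3 = .i := by rfl
theorem ltB_4 : ltB 4 = .h := by rfl
theorem ltB_5 : ltB 5 = .d := by rfl
theorem ltB_6 : ltB 6 = .c := by rfl
theorem ltB_7 : ltB 7 = .b := by rfl
theorem ltB_8 : ltB 8 = .a := by rfl
theorem ltB_9 : ltB 9 = .e := by rfl
theorem ltB_10 : ltB 10 = .f := by rfl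
theorem letters_mO {d : ℕ} (h : mO.testBit d = true) : 3 ≤ d ∧ d ≤ 10 := by
  have h1 : d < 11 := by
    by_contra hc
    have h2 : mO < 2 ^ 11 := by decide +kernel
    rw [Nat.testBit_lt_two_pow (lt_of_lt_of_le h2 (Nat.pow_le_pow_right (by norm_num) (by omega)))] at h
    exact absurd h (by simp)
  refine ⟨?_, by omega⟩
  by_contra hc
  interval_cases d
  · exact absurd h (by decide +kernel)
  · exact absurd h (by decide +kernel)
  · exact absurd h (by decide +kernel)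

theorem bgen_mem_O {d : ℕ} (h : mO.testBit d = true) : bgen d ∈ O := by
  obtain ⟨h3, h10⟩ := letters_mO h
  have key : ∀ y : Gen, [y] ∈ TO → Cfsg.Agent.Fischer.Fi22PtsRep.gen y ∈ O := fun y hy => by
    have := R.wd_mem_clo hy
    rwa [Rep.wd_cons, Rep.wd_nil, mul_one] at this
  show Cfsg.Agent.Fischer.Fi22PtsRep.gen (ltB d) ∈ O
  interval_cases d
  · rw [ltB_3]; exact key _ (by decide)
  · rw [ltB_4]; exact key _ (by decide)
  · rw [ltB_5]; exact key _ (by decide)
  · rw [ltB_6]; exact key _ (by decide)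
  · rw [ltB_7]; exact key _ (by decide)
  · rw [ltB_8]; exact key _ (by decide)
  · rw [ltB_9]; exact key _ (by decide)
  · rw [ltB_10]; exact key _ (by decide)

theorem mem_gpB {m d : ℕ} (h : m.testBit d = true) : bgen d ∈ gpB m := Subgroup.subset_closure ⟨d, h, rfl⟩

theorem gen_mem_gpB {d : ℕ} (y : Gen) (hy : ltB d = y) (h : mO.testBit d = true) :
    R.wd [y] ∈ gpB mO := by
  rw [Rep.wd_cons, Rep.wd_nil, mul_one]
  subst hy
  exact mem_gpB h

/-- `O = ⟨t3, …, t10⟩`. -/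
theorem O_eq : O = gpB mO := by
  apply le_antisymm
  · refine R.clo_le ?_
    intro w hw
    unfold TO at hw
    simp only [List.mem_cons, List.not_mem_nil, or_false] at hw
    rcases hw with rfl | rfl | rfl | rfl | rfl | rfl | rfl | rfl
    · exact gen_mem_gpB _ ltB_8 (by decide +kernel)
    · exact gen_mem_gpB _ ltB_4 (by decide +kernel)
    · exact gen_mem_gpB _ ltB_9 (by decide +kernel)
    · exact gen_mem_gpB _ ltB_6 (by decide +kernel)
    · exact gen_mem_gpB _ ltB_10 (by decide +kernel)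
    · exact gen_mem_gpB _ ltB_7 (by decide +kernel)
    · exact gen_mem_gpB _ ltB_3 (by decide +kernel)
    · exact gen_mem_gpB _ ltB_5 (by decide +kernel)
  · unfold gpB
    rw [Subgroup.closure_le]
    rintro x ⟨d, hd, rfl⟩
    exact bgen_mem_O hd

/-- The stabiliser of the node `j`. -/
def SB (j : Fin 6) : Subgroup Spor.Fi22 := Subgroup.closure {x | ∃ w ∈ wsB j, EB w = x}

theorem SB_eq {j : Fin 6} {T : List (List Gen)} (h : (wsB j).map lst = T) : SB j = R.clo T := by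
  subst h
  unfold SB Rep.clo
  congr 1
  ext x
  constructor
  · rintro ⟨w, hw, rfl⟩
    exact ⟨lst w, List.mem_map_of_mem hw, EB_eq w⟩
  · rintro ⟨v, hv, rfl⟩
    obtain ⟨w, hw, rfl⟩ := List.mem_map.1 hv
    exact ⟨w, hw, EB_eq w⟩

/-- The statement of the covering of the node `j`. -/
def Cov (j : Fin 6) : Prop :=
  ∀ k : Spor.Fi22, ∃ e : Fin 32, tgtE e = j ∧ ∃ s ∈ SB j, ∃ x ∈ O, k = s * EB (bE e) * x

theorem cov_of {j : Fin 6} {T M : List (List Gen)} (hT : (wsB j).map lst = T)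
    (hM : ∀ m ∈ M, ∃ e : Fin 32, tgtE e = j ∧ lst (bE e) = m)
    (h : ∀ k : Spor.Fi22, ∃ m ∈ M, ∃ s ∈ R.clo T, ∃ x ∈ O, k = s * R.wd m * x) : Cov j := by
  intro k
  obtain ⟨m, hm, s, hs, x, hx, rfl⟩ := h k
  obtain ⟨e, he, rfl⟩ := hM m hm
  exact ⟨e, he, s, by rwa [SB_eq hT], x, hx, by rw [EB_eq]⟩

theorem T0_eq : (wsB 0).map lst = StageAB.T0 := by decide +kernel
theorem T1_eq : (wsB 1).map lst = StageAB.T1 := by decide +kernel
theorem T2_eq : (wsB 2).map lst = StageAB.T2 := by decide +kernel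
theorem T3_eq : (wsB 3).map lst = StageAB.T3 := by decide +kernel
theorem T4_eq : (wsB 4).map lst = StageAB.T4 := by decide +kernel
theorem T5_eq : (wsB 5).map lst = StageAB.T5 := by decide +kernel

theorem M0_mem : ∀ m ∈ StageAB.M0, ∃ e : Fin 32, tgtE e = 0 ∧ lst (bE e) = m := by decide +kernel
theorem M1_mem : ∀ m ∈ StageAB.M1, ∃ e : Fin 32, tgtE e = 1 ∧ lst (bE e) = m := by decide +kernel
theorem M2_mem : ∀ m ∈ StageAB.M2, ∃ e : Fin 32, tgtE e = 2 ∧ lst (bE e) = m := by decide +kernel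
theorem M3_mem : ∀ m ∈ StageAB.M3, ∃ e : Fin 32, tgtE e = 3 ∧ lst (bE e) = m := by decide +kernel
theorem M4_mem : ∀ m ∈ StageAB.M4, ∃ e : Fin 32, tgtE e = 4 ∧ lst (bE e) = m := by decide +kernel
theorem M5_mem : ∀ m ∈ StageAB.M5, ∃ e : Fin 32, tgtE e = 5 ∧ lst (bE e) = m := by decide +kernel

/-- **The coverings of the `B`-nodes.** -/
theorem covB (j : Fin 6) (k : Spor.Fi22) : ∃ e : Fin 32, tgtE e = j ∧
    ∃ s ∈ Subgroup.closure {x | ∃ w ∈ wsB j, EB w = x}, ∃ x ∈ gpB mO, k = s * EB (bE e) * x := by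
  rw [← O_eq]
  have key : Cov j := by
    fin_cases j
    · exact cov_of T0_eq M0_mem StageAB.cov0
    · exact cov_of T1_eq M1_mem StageAB.cov1
    · exact cov_of T2_eq M2_mem StageAB.cov2
    · exact cov_of T3_eq M3_mem StageAB.cov3
    · exact cov_of T4_eq M4_mem StageAB.cov4
    · exact cov_of T5_eq M5_mem StageAB.cov5
  exact key k

/-- The indices of the stabilisers of the `B`-nodes. -/
def idxB : Fin 6 → ℕ := ![14080, 17791488, 15206400, 400308480, 72783360, 679311360]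

theorem sum_idxB : ∑ j, idxB j = 1185415168 := by decide

/-- **The index bounds of the `B`-nodes.** -/
theorem indexB (j : Fin 6) : (Subgroup.closure {x | ∃ w ∈ wsB j, EB w = x}).index ≠ 0 ∧
    (Subgroup.closure {x | ∃ w ∈ wsB j, EB w = x}).index ≤ idxB j := by
  have key : ∀ {i : Fin 6} {T : List (List Gen)} {n : ℕ}, (wsB i).map lst = T →
      ((R.clo T).index ≠ 0 ∧ (R.clo T).index ≤ n) → idxB i = n →
      (SB i).index ≠ 0 ∧ (SB i).index ≤ idxB i := by
    intro i T n hT h hn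
    rw [SB_eq hT, hn]; exact h
  change (SB j).index ≠ 0 ∧ (SB j).index ≤ idxB j
  fin_cases j
  · exact key T0_eq StageAB.index0 rfl
  · exact key T1_eq StageAB.index1 rfl
  · exact key T2_eq StageAB.index2 rfl
  · exact key T3_eq StageAB.index3 rfl
  · exact key T4_eq StageAB.index4 rfl
  · exact key T5_eq StageAB.index5 rfl

end Cfsg.Agent.BM.CovB
end

-- part: BM/StageABip
section
/-!
Stage A of S1704, assembly of the bipartite double coset enumeration (helper606).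

`F` and `F₂` are abstract groups with homomorphisms `φ`, `φ₂` into `G`; the double cosets are those of
`H = K₀.map φ` with respect to `K₀.map φ` (nodes `w i`) and to `φ₂.range` (nodes `v j`).
-/

set_option autoImplicit false

namespace Cfsg.Agent.BM.StageABip

open Cfsg.Agent.BM.DCE

variable {F F₂ G : Type*} [Group F] [Group F₂] [Group G]

/-- **Assembly**: coverings and index bounds in the abstract groups, facts in `G`. -/
theorem relIndex_le_of_bip {ι ι₂ : Type*} [Fintype ι₂] (φ : F →* G) (φ₂ : F₂ →* G) (K₀ O : Subgroup F)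
    (O₂ : Subgroup F₂) (hO : O ≤ K₀) (hO' : ∀ y ∈ O, φ y ∈ φ₂.range) (hO₂ : ∀ y ∈ O₂, φ₂ y ∈ K₀.map φ)
    (w : ι → G) (v : ι₂ → G)
    (S : ι → Subgroup F)
    (hS : ∀ i, ∀ s ∈ S i, w i * φ s * (w i)⁻¹ ∈ K₀.map φ)
    (S₂ : ι₂ → Subgroup F₂) (hS₂ : ∀ j, ∀ s ∈ S₂ j, v j * φ₂ s * (v j)⁻¹ ∈ K₀.map φ)
    (M : ι → Set F) (hM : ∀ i, ∀ m ∈ M i, m ∈ K₀)
    (edge : ∀ i, ∀ m ∈ M i, ∃ j, ∃ m' ∈ φ₂.range, SameC (K₀.map φ) (w i * φ m) (v j * m'))
    (M₂ : ι₂ → Set F₂)
    (edge₂ : ∀ j, ∀ m ∈ M₂ j, ∃ i, ∃ m' ∈ K₀.map φ, SameC (K₀.map φ) (w i * m') (v j * φ₂ m))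
    (cov : ∀ i, ∀ k ∈ K₀, ∃ m ∈ M i, ∃ s ∈ S i, ∃ y ∈ O, k = s * m * y)
    (cov₂ : ∀ j, ∀ k : F₂, ∃ m ∈ M₂ j, ∃ s ∈ S₂ j, ∃ y ∈ O₂, k = s * m * y)
    (one : ∃ j, v j ∈ K₀.map φ) (T : Subgroup G) (hKT₂ : φ₂.range ≤ T)
    (hT : T ≤ Subgroup.closure ((K₀.map φ : Set G) ∪ φ₂.range)) (hv : ∀ j, v j ∈ T)
    (n : ι₂ → ℕ) (hn : ∀ j, (S₂ j).index ≠ 0 ∧ (S₂ j).index ≤ n j) :
    (K₀.map φ).relIndex T ≠ 0 ∧ (K₀.map φ).relIndex T ≤ ∑ j, n j := by
  classical
  set H : Subgroup G := K₀.map φ with hHdef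
  -- the double cosets `H v_j φ₂(F₂)` cover `T`
  have hcov : ∀ g ∈ Subgroup.closure ((φ₂.range : Set G) ∪ H), ∃ j, InDC H φ₂.range (v j) g := by
    let E : Type _ := {q : (ι × G) × (ι₂ × G) //
      q.1.2 ∈ H ∧ q.2.2 ∈ φ₂.range ∧ SameC H (w q.1.1 * q.1.2) (v q.2.1 * q.2.2)}
    refine bip (E := E) H φ₂.range H (H ⊓ φ₂.range) inf_le_right inf_le_left v
      (fun j => (S₂ j).map φ₂) ?_ w (fun i => (S i).map φ) ?_ (fun e => e.1.2.1) (fun e => e.1.1.1)
      (fun e => e.1.2.2) (fun e => e.1.1.2) (fun e => e.2.2.1) (fun e => e.2.1) (fun e => e.2.2.2.symm)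
      ?_ ?_ ?_
    · rintro j _ ⟨s, hs, rfl⟩
      exact hS₂ j s hs
    · rintro i _ ⟨s, hs, rfl⟩
      exact hS i s hs
    · rintro j _ ⟨k, rfl⟩
      obtain ⟨m, hm, s, hs, y, hy, rfl⟩ := cov₂ j k
      obtain ⟨i, m', hm', hsame⟩ := edge₂ j m hm
      refine ⟨⟨((i, m'), (j, φ₂ m)), hm', ⟨m, rfl⟩, hsame⟩, rfl, φ₂ s, ⟨s, hs, rfl⟩, φ₂ y,
        ⟨hO₂ y hy, ⟨y, rfl⟩⟩, ?_⟩
      rw [map_mul, map_mul]
    · rintro i _ ⟨k, hk, rfl⟩
      obtain ⟨m, hm, s, hs, y, hy, rfl⟩ := cov i k hk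
      obtain ⟨j, m', hm', hsame⟩ := edge i m hm
      refine ⟨⟨((i, φ m), (j, m')), ⟨m, hM i m hm, rfl⟩, hm', hsame⟩, rfl, φ s, ⟨s, hs, rfl⟩, φ y,
        ⟨⟨y, hO hy, rfl⟩, hO' y hy⟩, ?_⟩
      rw [map_mul, map_mul]
    · obtain ⟨j, hj⟩ := one
      exact ⟨j, 1, one_mem _, by simpa using H.inv_mem hj⟩
  have h1 : ∀ j, ((S₂ j).map φ₂).relIndex φ₂.range ≠ 0 ∧ ((S₂ j).map φ₂).relIndex φ₂.range ≤ n j := by
    intro j
    have h2 := Cfsg.Agent.BM.StageA.relIndex_map_range_le φ₂ (S₂ j) (hn j).1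
    exact ⟨h2.1, h2.2.trans (hn j).2⟩
  have key := relIndex_le H φ₂.range T v (fun j => (S₂ j).map φ₂) hKT₂ hv (by
    rintro j _ ⟨s, hs, rfl⟩
    exact hS₂ j s hs) (fun g hg => hcov g (by rw [Set.union_comm]; exact hT hg)) (fun j => (h1 j).1)
  exact ⟨key.1, key.2.trans (Finset.sum_le_sum fun j _ => (h1 j).2)⟩

end Cfsg.Agent.BM.StageABip
end

private theorem dce_4384ccbe785b : _root_.True := by
  try have : _root_.True := by simp only [_root_.Cfsg.Agent.BM.CertA.model.congr_simp]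
  try have : _root_.True := by simp only [_root_.Cfsg.Agent.BM.CertA.allItems.eq_1]
  try have : _root_.True := by simp only [_root_.Cfsg.Agent.BM.CertA.gv.eq_1]
  exact _root_.True.intro
end

-- part: BM/KHAll
section
prune_inst 0x20006004000000000000000000000020000000000040000000000000000000400000000000000002000004000002000000000000020000000a000000000000000000000000000000000000000000000000000000000000000000000000000000000000000
set_option linter.all false
open scoped Cfsg.Agent.FastGrp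

-- part: BM/StageAFinal
section
/-!
Stage A of S1704, final form (helper606): in every group with elements `t1, …, t11` satisfying the relators of the
presented Baby Monster the subgroup `⟨t2, …, t11⟩` has order at most `2 · |²E₆(2)|`.
-/

set_option autoImplicit false
set_option maxRecDepth 100000
set_option linter.constructorNameAsVariable false

namespace Cfsg.Agent.BM.StageAFinal

open Cfsg.Spor Cfsg.Agent.BM Cfsg.Agent.BM.Psi Cfsg.Agent.BM.StageAData Cfsg.Agent.BM.CertA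

variable {G : Type*} [Group G] {x : BabyMonster.Gen → G}

/-- `H = ⟨t2, …, t11⟩` -/
def H (x : BabyMonster.Gen → G) : Subgroup G :=
  Subgroup.closure {x .t2, x .t3, x .t4, x .t5, x .t6, x .t7, x .t8, x .t9, x .t10, x .t11}

theorem mem_H (x : BabyMonster.Gen → G) (t : BabyMonster.Gen) (ht : t ≠ .t1) : x t ∈ H x := by
  apply Subgroup.subset_closure
  simp only [Set.mem_insert_iff, Set.mem_singleton_iff]
  cases t <;> first | exact absurd rfl ht | simp

theorem map_gpA_le (h : Rel x) : (CovA.gp CovA.mA).map (psi h) ≤ X x := by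
  rw [CovA.gp, MonoidHom.map_closure, Subgroup.closure_le]
  rintro _ ⟨_, ⟨d, hd, rfl⟩, rfl⟩
  obtain ⟨h2, h10⟩ := CovA.letters_mA hd
  have e := psi_fgen h d
  have hm : m1 (OracleFi23.lt0 d) ∈
      ({.t2, .t3, .t4, .t5, .t6, .t7, .t8, .t9, .t10} : Set BabyMonster.Gen) := by
    interval_cases d
    · show BabyMonster.Gen.t2 ∈ _; simp
    · show BabyMonster.Gen.t3 ∈ _; simp
    · show BabyMonster.Gen.t4 ∈ _; simp
    · show BabyMonster.Gen.t5 ∈ _; simp
    · show BabyMonster.Gen.t6 ∈ _; simp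
    · show BabyMonster.Gen.t7 ∈ _; simp
    · show BabyMonster.Gen.t8 ∈ _; simp
    · show BabyMonster.Gen.t9 ∈ _; simp
    · show BabyMonster.Gen.t10 ∈ _; simp
  show psi h (OracleFi23.fgen 0 d) ∈ X x
  rw [e]
  exact mem_X x _ hm

theorem letter_mem (h : Rel x) (d : ℕ) (hd : CovA.mA.testBit d = true) (t : BabyMonster.Gen)
    (ht : m1 (OracleFi23.lt0 d) = t) : x t ∈ (CovA.gp CovA.mA).map (psi h) := by
  rw [← ht, ← psi_fgen h d]
  exact ⟨_, Subgroup.subset_closure ⟨d, hd, rfl⟩, rfl⟩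

theorem X_le_map (h : Rel x) : X x ≤ (CovA.gp CovA.mA).map (psi h) := by
  unfold X
  rw [Subgroup.closure_le]
  intro y hy
  simp only [Set.mem_insert_iff, Set.mem_singleton_iff] at hy
  rcases hy with rfl | rfl | rfl | rfl | rfl | rfl | rfl | rfl | rfl
  · exact letter_mem h 2 (by decide +kernel) _ rfl
  · exact letter_mem h 3 (by decide +kernel) _ rfl
  · exact letter_mem h 4 (by decide +kernel) _ rfl
  · exact letter_mem h 5 (by decide +kernel) _ rfl
  · exact letter_mem h 6 (by decide +kernel) _ rfl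
  · exact letter_mem h 7 (by decide +kernel) _ rfl
  · exact letter_mem h 8 (by decide +kernel) _ rfl
  · exact letter_mem h 9 (by decide +kernel) _ rfl
  · exact letter_mem h 10 (by decide +kernel) _ rfl

/-- `X = ⟨t2, …, t10⟩` is the image of a subgroup of `Fi23`. -/
theorem map_gpA (h : Rel x) : (CovA.gp CovA.mA).map (psi h) = X x :=
  le_antisymm (map_gpA_le h) (X_le_map h)

theorem X_le_H (x : BabyMonster.Gen → G) : X x ≤ H x := by
  unfold X
  rw [Subgroup.closure_le]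
  intro y hy
  simp only [Set.mem_insert_iff, Set.mem_singleton_iff] at hy
  rcases hy with rfl | rfl | rfl | rfl | rfl | rfl | rfl | rfl | rfl <;> exact mem_H x _ (by decide)

theorem finite_X (h : Rel x) : Finite (X x) := by
  rw [← map_gpA h]
  have := CovA.finite_Fi23
  exact Finite.of_surjective _ ((psi h).subgroupMap_surjective (CovA.gp CovA.mA))

theorem card_X_le (h : Rel x) : Nat.card (X x) ≤ 129123503308800 := by
  have := CovA.finite_Fi23
  rw [← map_gpA h]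
  exact (Nat.card_le_card_of_surjective _ ((psi h).subgroupMap_surjective (CovA.gp CovA.mA))).trans CovA.card_A_le

/-- All letters of `⟨t3, …, t11⟩` -/
theorem psiA_range_le (h : Rel x) : (psiA h).range ≤ H x := by
  rw [MonoidHom.range_eq_map, ← PresentedGroup.closure_range_of, MonoidHom.map_closure, Subgroup.closure_le]
  rintro _ ⟨_, ⟨g, rfl⟩, rfl⟩
  show psiA h (PresentedGroup.of g) ∈ H x
  rw [psiA_of h g]
  exact mem_H x _ (by cases g <;> decide)

theorem mem_psiA_range (h : Rel x) (g : Fi22.Gen) : x (mA g) ∈ (psiA h).range := ⟨_, psiA_of h g⟩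

theorem H_le (h : Rel x) : H x ≤ Subgroup.closure ((X x : Set G) ∪ (psiA h).range) := by
  unfold H
  rw [Subgroup.closure_le]
  have k1 : ∀ t : BabyMonster.Gen, t ∈ ({.t2, .t3, .t4, .t5, .t6, .t7, .t8, .t9, .t10} : Set BabyMonster.Gen) →
      x t ∈ Subgroup.closure ((X x : Set G) ∪ (psiA h).range) := fun t ht =>
    Subgroup.subset_closure (Or.inl (mem_X x t ht))
  intro y hy
  simp only [Set.mem_insert_iff, Set.mem_singleton_iff] at hy
  rcases hy with rfl | rfl | rfl | rfl | rfl | rfl | rfl | rfl | rfl | rfl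
  · exact k1 _ (by simp)
  · exact k1 _ (by simp)
  · exact k1 _ (by simp)
  · exact k1 _ (by simp)
  · exact k1 _ (by simp)
  · exact k1 _ (by simp)
  · exact k1 _ (by simp)
  · exact k1 _ (by simp)
  · exact k1 _ (by simp)
  · exact Subgroup.subset_closure (Or.inr (mem_psiA_range h .g))

/-! ### Words -/

theorem e0_mem (h : Rel x) {u : ℕ} (hu : Script.wordIn CovA.mA u = true) : e0 h u ∈ X x := by
  rw [← map_gpA h]
  exact ⟨_, CovA.E_mem hu, rfl⟩

theorem e1_mem (h : Rel x) (u : ℕ) : e1 h u ∈ (psiA h).range := ⟨_, rfl⟩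

theorem e1_mem_H (h : Rel x) (u : ℕ) : e1 h u ∈ H x := psiA_range_le h (e1_mem h u)

theorem e0_mem_H (h : Rel x) {u : ℕ} (hu : Script.wordIn CovA.mA u = true) : e0 h u ∈ H x :=
  X_le_H x (e0_mem h hu)

/-- The letters of `aE` are those of `⟨t2, …, t10⟩`. -/
theorem aE_in : ∀ e : Fin 32, Script.wordIn CovA.mA (aE e) = true := by decide +kernel

/-! ### The nodes lie in `H` -/

theorem wn0_mem (h : Rel x) : wn0 h ∈ H x := (H x).one_mem
theorem wn8_mem (h : Rel x) : wn8 h ∈ H x :=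
  (H x).mul_mem (wn0_mem h) (e0_mem_H h (by decide +kernel))
theorem wn1_mem (h : Rel x) : wn1 h ∈ H x := (H x).mul_mem (wn8_mem h) (e1_mem_H h _)
theorem wn2_mem (h : Rel x) : wn2 h ∈ H x := (H x).mul_mem (wn8_mem h) (e1_mem_H h _)
theorem wn9_mem (h : Rel x) : wn9 h ∈ H x :=
  (H x).mul_mem (wn1_mem h) (e0_mem_H h (by decide +kernel))
theorem wn10_mem (h : Rel x) : wn10 h ∈ H x :=
  (H x).mul_mem (wn2_mem h) (e0_mem_H h (by decide +kernel))
theorem wn11_mem (h : Rel x) : wn11 h ∈ H x :=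
  (H x).mul_mem (wn1_mem h) (e0_mem_H h (by decide +kernel))
theorem wn3_mem (h : Rel x) : wn3 h ∈ H x := (H x).mul_mem (wn10_mem h) (e1_mem_H h _)
theorem wn4_mem (h : Rel x) : wn4 h ∈ H x := (H x).mul_mem (wn11_mem h) (e1_mem_H h _)
theorem wn12_mem (h : Rel x) : wn12 h ∈ H x :=
  (H x).mul_mem (wn4_mem h) (e0_mem_H h (by decide +kernel))
theorem wn13_mem (h : Rel x) : wn13 h ∈ H x :=
  (H x).mul_mem (wn3_mem h) (e0_mem_H h (by decide +kernel))

theorem v_mem (h : Rel x) (j : Fin 6) : w h (8 + j.val) ∈ H x := by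
  fin_cases j
  · exact wn8_mem h
  · exact wn9_mem h
  · exact wn10_mem h
  · exact wn11_mem h
  · exact wn12_mem h
  · exact wn13_mem h

/-! ### The assembly -/

/-- Words stabilising a coset generate a subgroup stabilising it. -/
theorem clo_stab {K : Subgroup G} {Q : Type*} [Group Q] (φ : Q →* G) (c : G) {Z : Set Q}
    (h : ∀ z ∈ Z, c * φ z * c⁻¹ ∈ K) : ∀ z ∈ Subgroup.closure Z, c * φ z * c⁻¹ ∈ K := by
  intro z hz
  have : Subgroup.closure Z ≤ (K.comap ((MulAut.conj c).toMonoidHom.comp φ)) := by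
    rw [Subgroup.closure_le]
    intro y hy
    show c * φ y * c⁻¹ ∈ K
    exact h y hy
  exact this hz

/-- The common subgroup `⟨t3, …, t10⟩`, seen from `Fi23`. -/
theorem psi_O_mem (h : Rel x) : ∀ y ∈ CovA.gp CovA.mO, psi h y ∈ (psiA h).range := by
  intro y hy
  have : CovA.gp CovA.mO ≤ ((psiA h).range).comap (psi h) := by
    unfold CovA.gp
    rw [Subgroup.closure_le]
    rintro _ ⟨d, hd, rfl⟩
    show psi h (OracleFi23.fgen 0 d) ∈ (psiA h).range
    rw [psi_fgen, glue d hd, ← psiA_bgen h d]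
    exact ⟨_, rfl⟩
  exact this hy

/-- The common subgroup `⟨t3, …, t10⟩`, seen from `Fi22`. -/
theorem psiA_O_mem (h : Rel x) : ∀ y ∈ CovB.gpB CovB.mO, psiA h y ∈ (CovA.gp CovA.mA).map (psi h) := by
  intro y hy
  have : CovB.gpB CovB.mO ≤ ((CovA.gp CovA.mA).map (psi h)).comap (psiA h) := by
    unfold CovB.gpB
    rw [Subgroup.closure_le]
    rintro _ ⟨d, hd, rfl⟩
    show psiA h (PairOracle.bgen d) ∈ (CovA.gp CovA.mA).map (psi h)
    rw [psiA_bgen, ← glue d hd, ← psi_fgen h d]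
    exact ⟨_, CovA.gpO_le (Subgroup.subset_closure ⟨d, hd, rfl⟩), rfl⟩
  exact this hy

/-- **Stage A**: the index of `X = ⟨t2, …, t10⟩` in `H = ⟨t2, …, t11⟩` is at most 1185415168. -/
theorem relIndex_le (h : Rel x) : (X x).relIndex (H x) ≠ 0 ∧ (X x).relIndex (H x) ≤ 1185415168 := by
  have key := StageABip.relIndex_le_of_bip (ι := Fin 8) (ι₂ := Fin 6) (psi h) (psiA h) (CovA.gp CovA.mA)
    (CovA.gp CovA.mO) (CovB.gpB CovB.mO) CovA.gpO_le (psi_O_mem h) (psiA_O_mem h)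
    (fun i => w h i.val) (fun j => w h (8 + j.val))
    (fun i => Subgroup.closure {y | ∃ u ∈ wsA i, CovA.E u = y}) (by
      intro i
      rw [map_gpA h]
      refine clo_stab (psi h) _ ?_
      rintro _ ⟨u, hu, rfl⟩
      exact stabA h i u hu)
    (fun j => Subgroup.closure {y | ∃ u ∈ wsB j, CovB.EB u = y}) (by
      intro j
      rw [map_gpA h]
      refine clo_stab (psiA h) _ ?_
      rintro _ ⟨u, hu, rfl⟩
      exact stabB h j u hu)
    (fun i => {m | ∃ e : Fin 32, srcE e = i ∧ CovA.E (aE e) = m}) (by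
      rintro i _ ⟨e, rfl, rfl⟩
      exact CovA.E_mem (aE_in e)) (by
      rintro i _ ⟨e, rfl, rfl⟩
      rw [map_gpA h]
      exact ⟨tgtE e, e1 h (bE e), e1_mem h _, same h e⟩)
    (fun j => {m | ∃ e : Fin 32, tgtE e = j ∧ CovB.EB (bE e) = m}) (by
      rintro j _ ⟨e, rfl, rfl⟩
      rw [map_gpA h]
      exact ⟨srcE e, e0 h (aE e), e0_mem h (aE_in e), same h e⟩)
    (by
      intro i k hk
      obtain ⟨e, he, s, hs, y, hy, h1⟩ := CovA.covA i k hk
      exact ⟨_, ⟨e, he, rfl⟩, s, hs, y, hy, h1⟩)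
    (by
      intro j k
      obtain ⟨e, he, s, hs, y, hy, h1⟩ := CovB.covB j k
      exact ⟨_, ⟨e, he, rfl⟩, s, hs, y, hy, h1⟩)
    ⟨0, by
      rw [map_gpA h]
      show wn8 h ∈ X x
      unfold wn8 wn0
      rw [e0_zero, one_mul]
      exact (X x).one_mem⟩
    (H x) (psiA_range_le h) (by rw [map_gpA h]; exact H_le h) (v_mem h) CovB.idxB (CovB.indexB)
  rw [map_gpA h, CovB.sum_idxB] at key
  exact key

/-- **Stage A**: `|⟨t2, …, t11⟩| ≤ 2 · |²E₆(2)|`. -/
theorem main (h : Rel x) : Finite (H x) ∧ Nat.card (H x) ≤ 2 * 76532479683774853939200 := by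
  obtain ⟨h0, hn⟩ := relIndex_le h
  have key := StageA.card_le_of_relIndex (X x) (H x) (X_le_H x) (finite_X h) (card_X_le h) h0 hn
  exact ⟨key.1, key.2.trans (by norm_num)⟩

end Cfsg.Agent.BM.StageAFinal
end

-- part: BM/KH
section
/-!
# The presented Baby Monster: transpositions and the subgroup `⟨t2, …, t11⟩` (helper62)

From stage A, stage B and the surjection `StageW.hom` onto the group of the concrete model (hypothesis `hs`):

* `bij` : the homomorphism onto the group of the model is bijective;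
* `card_B`, `isB`;
* `card_conj`, `card_cent` : every node `t_i` has 13571955000 conjugates;
* `card_H`, `index_H` : `H = ⟨t2, …, t11⟩` has order `2 · |²E₆(2)|` and index 27143910000.
-/

set_option autoImplicit false

namespace Cfsg.Agent.BM.KH

open Cfsg.Agent.BabyM.Conc Cfsg.Agent.BabyM.Model Cfsg.Agent.BabyM.Inst Cfsg.Agent.BabyM
  Cfsg.Agent.BM.StageW Cfsg.Agent.BM.FactsB Cfsg.Agent.BM.StageBFinalOf Cfsg.Spor Cfsg.Spor.BabyMonster

/-! ### Elementary lemmas -/

section Abs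

variable {G : Type*} [Group G]

theorem isConj_of_braid {a b : G} (ha : a * a = 1) (hb : b * b = 1) (h : a * b * a = b * a * b) :
    IsConj a b := by
  rw [isConj_iff]
  refine ⟨a * b, ?_⟩
  rw [mul_inv_rev, inv_eq_of_mul_eq_one_left ha, inv_eq_of_mul_eq_one_left hb]
  calc a * b * a * (b * a) = b * a * b * (b * a) := by rw [h]
    _ = b * a * (b * b) * a := by simp only [mul_assoc]
    _ = b := by rw [hb, mul_one, mul_assoc, ha, mul_one]

theorem conjugatesOf_eq {a b : G} (h : IsConj a b) : conjugatesOf a = conjugatesOf b :=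
  isConj_iff_conjugatesOf_eq.1 h

/-- The number of conjugates is invariant under isomorphisms. -/
theorem card_conj_equiv {X : Type*} [Group X] (e : G ≃* X) (g : G) :
    Nat.card (conjugatesOf g) = Nat.card (conjugatesOf (e g)) := by
  refine Nat.card_congr (Equiv.subtypeEquiv e.toEquiv fun y => ?_)
  change IsConj g y ↔ IsConj (e g) (e y)
  rw [isConj_iff, isConj_iff]
  constructor
  · rintro ⟨c, rfl⟩
    exact ⟨e c, by simp⟩
  · rintro ⟨c, hc⟩
    refine ⟨e.symm c, e.injective ?_⟩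
    rw [map_mul, map_mul, map_inv, e.apply_symm_apply, hc]

/-- Class equation for one class. -/
theorem card_conj_mul (g : G) : Nat.card (conjugatesOf g) * Nat.card (Subgroup.centralizer ({g} : Set G)) =
    Nat.card G := by
  have e1 : conjugatesOf g = MulAction.orbit (ConjAct G) g := by
    rw [ConjAct.orbit_eq_carrier_conjClasses]
    rfl
  have e2 : Nat.card (Subgroup.centralizer ({g} : Set G)) = Nat.card (MulAction.stabilizer (ConjAct G) g) := by
    rw [ConjAct.stabilizer_eq_centralizer]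
    rfl
  rw [e1, e2, ← Nat.card_prod]
  exact Nat.card_congr (MulAction.orbitProdStabilizerEquivGroup (ConjAct G) g)

/-- If `|H| ≤ m`, `|G : H| ≤ n` and `|G| = m n ≠ 0` then both are equalities. -/
theorem eq_of_bounds (H : Subgroup G) {m n : ℕ} (hm : Nat.card H ≤ m) (hn : H.index ≤ n)
    (hG : Nat.card G = m * n) (h0 : 0 < m * n) : Nat.card H = m ∧ H.index = n := by
  have e : Nat.card H * H.index = m * n := H.card_mul_index.trans hG
  have hm0 : 0 < m := Nat.pos_of_mul_pos_right h0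
  have hn0 : 0 < n := Nat.pos_of_mul_pos_left h0
  constructor
  · refine le_antisymm hm ?_
    by_contra hc
    have h1 : Nat.card H * H.index < m * n :=
      lt_of_le_of_lt (Nat.mul_le_mul_left _ hn) (Nat.mul_lt_mul_of_pos_right (not_le.1 hc) hn0)
    omega
  · refine le_antisymm hn ?_
    by_contra hc
    have h1 : Nat.card H * H.index < m * n :=
      lt_of_le_of_lt (Nat.mul_le_mul_right _ hm) (Nat.mul_lt_mul_of_pos_left (not_le.1 hc) hm0)
    omega

end Abs

/-! ### The nodes are transpositions of the model -/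

/-- The transposition of the model as an element of the group. -/
noncomputable def t0 : M.G := ⟨M.t₀, Instance.all.C_le_G Instance.all.t₀_C⟩

theorem chk_t11 : chk [.p10, .Z0, .Z2, .Z4, .Z5, .Z6, .p] (tw .t11) = true := by decide +kernel

theorem Wg_t0 : Wg [.Z0, .Z2, .Z4, .Z5, .Z6] = t0 := rfl

theorem Wg_p10_p : Wg [.p] * Wg [.p10] = 1 := by
  rw [← Wg_append]
  have h : W [.p10, .p] = W [] := ConcEq.w_p11
  exact (Subtype.ext h).trans Wg_nil

theorem conj_t11 : IsConj t0 (x .t11) := by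
  rw [isConj_iff]
  refine ⟨Wg [.p], ?_⟩
  have h := eq_of_chk Instance.all Instance.ok chk_t11
  rw [Wg_tw] at h
  rw [← h, ← Wg_t0]
  have e : ([.p10, .Z0, .Z2, .Z4, .Z5, .Z6, .p] : List Ltr) =
    ([.p10] : List Cfsg.Agent.BabyM.Conc.Ltr) ++ ([.Z0, .Z2, .Z4, .Z5, .Z6] : List Cfsg.Agent.BabyM.Conc.Ltr) ++ [.p] := rfl
  rw [e, Wg_append, Wg_append, mul_assoc]
  congr 2
  exact inv_eq_of_mul_eq_one_right Wg_p10_p

theorem braid {a b : Gen} (h : chk (tw a ++ tw b ++ tw a) (tw b ++ tw a ++ tw b) = true) :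
    IsConj (x a) (x b) :=
  isConj_of_braid (sq Instance.all Instance.ok a) (sq Instance.all Instance.ok b)
    (braid_of Instance.all Instance.ok h)

theorem conj_t5 : IsConj t0 (x .t5) :=
  ((conj_t11.trans (braid c10_11).symm).trans (braid c9_10).symm).trans (braid c5_9).symm

/-- Every node is conjugate to the transposition `t₀` of the model. -/
theorem conj_x (t : Gen) : IsConj t0 (x t) := by
  have h4 := conj_t5.trans (braid c4_5).symm
  have h3 := h4.trans (braid c3_4).symm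
  have h2 := h3.trans (braid c2_3).symm
  have h6 := conj_t5.trans (braid c5_6)
  have h7 := h6.trans (braid c6_7)
  have h9 := conj_t5.trans (braid c5_9)
  cases t
  case t1 => exact h2.trans (braid c1_2).symm
  case t2 => exact h2
  case t3 => exact h3
  case t4 => exact h4
  case t5 => exact conj_t5
  case t6 => exact h6
  case t7 => exact h7
  case t8 => exact h7.trans (braid c7_8)
  case t9 => exact h9
  case t10 => exact h9.trans (braid c9_10)
  case t11 => exact conj_t11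

theorem card_conj_x (t : Gen) : Nat.card (conjugatesOf (x t)) = 13571955000 := by
  rw [← conjugatesOf_eq (conj_x t)]
  exact Instance.all.card_class Instance.tr

/-! ### Conclusions for the presented group -/

/-- The homomorphism onto the group of the model. -/
noncomputable def f : Spor.BabyMonster →* M.G := hom Instance.all Instance.ok

theorem f_gB (t : Gen) : f (gB t) = x t := hom_of _ _ t

theorem HB_le : HB gB ≤ StageAFinal.H gB := by
  unfold HB
  rw [Subgroup.closure_le]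
  rintro _ ⟨t, ht, rfl⟩
  exact StageAFinal.mem_H gB t ht

theorem H_le : StageAFinal.H gB ≤ HB gB := by
  unfold StageAFinal.H
  rw [Subgroup.closure_le]
  intro y hy
  simp only [Set.mem_insert_iff, Set.mem_singleton_iff] at hy
  rcases hy with rfl | rfl | rfl | rfl | rfl | rfl | rfl | rfl | rfl | rfl
  all_goals exact mem_HB gB (fun h => Gen.noConfusion h)

theorem H_eq : HB gB = StageAFinal.H gB := le_antisymm HB_le H_le

theorem finite_H : Finite (HB gB) := by
  rw [H_eq]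
  exact (StageAFinal.main rel_gB).1

theorem card_H_le : Nat.card (HB gB) ≤ 2 * 76532479683774853939200 := by
  rw [H_eq]
  exact (StageAFinal.main rel_gB).2

theorem finite_B : Finite Spor.BabyMonster :=
  (Final1704.card_le (HB gB) finite_H card_H_le StageBFinal.main.1 StageBFinal.main.2).1

theorem card_B_le : Nat.card Spor.BabyMonster ≤ 4154781481226426191177580544000000 := by
  have h := (Final1704.card_le (HB gB) finite_H card_H_le StageBFinal.main.1 StageBFinal.main.2).2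
  simpa using h

section

variable (hs : Function.Surjective f)
include hs

theorem bij : Function.Bijective f := by
  have := finite_B
  have hfin : Finite M.G := Finite.of_surjective _ hs
  have h1 : Nat.card M.G ≤ Nat.card Spor.BabyMonster := Nat.card_le_card_of_surjective _ hs
  have h2 : Nat.card M.G = 4154781481226426191177580544000000 := Instance.isB.2
  exact (Nat.bijective_iff_surjective_and_card f).2 ⟨hs, le_antisymm (by rw [h2]; exact card_B_le) h1⟩

/-- The isomorphism with the group of the model. -/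
noncomputable def iso : Spor.BabyMonster ≃* M.G := MulEquiv.ofBijective f (bij hs)

theorem card_B : Nat.card Spor.BabyMonster = 4154781481226426191177580544000000 := by
  rw [Nat.card_congr (iso hs).toEquiv]
  exact Instance.isB.2

theorem isB : Cfsg.IsB Spor.BabyMonster := Final1704.isB_of_equiv (iso hs) Instance.isB

/-- **Every node has 13571955000 conjugates.** -/
theorem card_conj (t : Gen) : Nat.card (conjugatesOf (gB t)) = 13571955000 := by
  rw [card_conj_equiv (iso hs) (gB t)]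
  have e : iso hs (gB t) = x t := f_gB t
  rw [e]
  exact card_conj_x t

theorem card_cent (t : Gen) :
    Nat.card (Subgroup.centralizer ({gB t} : Set Spor.BabyMonster)) = 306129918735099415756800 := by
  have h := card_conj_mul (gB t)
  rw [card_conj hs t, card_B hs] at h
  omega

theorem card_H : Nat.card (HB gB) = 2 * 76532479683774853939200 :=
  (eq_of_bounds (HB gB) card_H_le StageBFinal.main.2 (by rw [card_B hs]) (by norm_num)).1

/-- **`⟨t2, …, t11⟩` has index 27143910000.** -/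
theorem index_H : (HB gB).index = 27143910000 :=
  (eq_of_bounds (HB gB) card_H_le StageBFinal.main.2 (by rw [card_B hs]) (by norm_num)).2

end

end Cfsg.Agent.BM.KH
end

-- part: BM/KHAll
section
/-!
# The presented Baby Monster: unconditional statements (helper62)

`KH.lean` with the surjectivity of helper922 (`StageWSurj`).
-/

set_option autoImplicit false

namespace Cfsg.Agent.BM.KHAll

open Cfsg.Agent.BabyM Cfsg.Agent.BM.FactsB Cfsg.Agent.BM.StageBFinalOf Cfsg.Spor Cfsg.Spor.BabyMonster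

theorem surj : Function.Surjective KH.f :=
  StageW.hom_surjective Instance.all Instance.ok (StageWSurj.closure_x Instance.all Instance.ok)

/-- The presented Baby Monster is isomorphic to the group of the concrete model. -/
noncomputable def iso : Spor.BabyMonster ≃* Inst.M.G := KH.iso surj

theorem iso_gB (t : Gen) : iso (gB t) = StageW.x t := KH.f_gB t

theorem card_B : Nat.card Spor.BabyMonster = 4154781481226426191177580544000000 := KH.card_B surj

/-- **S1704.** -/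
theorem isB : Cfsg.IsB Spor.BabyMonster := KH.isB surj

theorem card_conj (t : Gen) : Nat.card (conjugatesOf (gB t)) = 13571955000 := KH.card_conj surj t

theorem card_cent (t : Gen) :
    Nat.card (Subgroup.centralizer ({gB t} : Set Spor.BabyMonster)) = 306129918735099415756800 :=
  KH.card_cent surj t

theorem index_cent (t : Gen) :
    (Subgroup.centralizer ({gB t} : Set Spor.BabyMonster)).index = 13571955000 := by
  have h := (Subgroup.centralizer ({gB t} : Set Spor.BabyMonster)).card_mul_index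
  rw [card_cent t, card_B] at h
  omega

theorem card_H : Nat.card (HB gB) = 2 * 76532479683774853939200 := KH.card_H surj

theorem index_H : (HB gB).index = 27143910000 := KH.index_H surj

end Cfsg.Agent.BM.KHAll
end

private theorem dce_3580d55e9dec : _root_.True := by
  try have : _root_.True := by simp only [_root_.Cfsg.Agent.BM.CovA.gp.eq_1]
  exact _root_.True.intro
end
end
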